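import Groth.Agent.L05.RatPow.Spread
import Groth.Agent.L13.RatSing.Birat
import Groth.Agent.S11555

/-! A modification maximising the first cohomology has rational singularities. -/

set_option autoImplicit false
set_option linter.style.haveILetI false
set_option maxHeartbeats 1000000
set_option backward.isDefEq.respectTransparency false
set_option backward.isDefEq.respectTransparency.types false

universe u

open CategoryTheory CategoryTheory.Limits AlgebraicGeometry TopologicalSpace Opposite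

noncomputable section

namespace Groth.L05.RatSpread

open Groth.L05.MinDesing (IsBir)

/-- Normal local rings of dimension at most one are rational. -/
theorem isRationalSing_of_dim_le_one (R : Type u) [CommRing R] [IsDomain R] [IsLocalRing R] [IsNoetherianRing R]
    [IsIntegrallyClosed R] (hdim : ringKrullDim R ≤ 1) : Curv2.IsRationalSing R := by
  intro Y f hp hi hn hb
  haveI := hp
  haveI := hi
  have hS : Pi1.IsNormalScheme (Spec (CommRingCat.of R)) := Groth.L05.NeronFinite.isNormalScheme_spec fun P _ =>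
    ⟨inferInstance, isIntegrallyClosed_of_isLocalization _ P.primeCompl P.primeCompl_le_nonZeroDivisors⟩
  obtain ⟨U₀, hU₀, hU₀i⟩ := id hb
  haveI := hU₀i
  obtain ⟨hξ, hbij⟩ := Groth.L13.RatSing.birational_of_isIso_restrict f U₀ hU₀
  obtain ⟨V, hVi, -, hV⟩ := Groth.Agent.S11555.result f hS hξ hbij
  haveI := hVi
  have hVtop : V = ⊤ := by
    refine Opens.ext (Set.eq_univ_of_forall fun p => ?_)
    by_contra hp
    have h2 : ringKrullDim ((Spec (CommRingCat.of R)).presheaf.stalk p) ≤ 1 := by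
      refine (Groth.L15.CohFlat.ringKrullDim_stalk_le (X := Spec (CommRingCat.of R)) p).trans ?_
      exact (PrimeSpectrum.topologicalKrullDim_eq_ringKrullDim R).trans_le hdim
    exact absurd ((hV p hp).trans h2) (by decide)
  subst hVtop
  haveI : IsAffine ((⊤ : (Spec (CommRingCat.of R)).Opens) : Scheme.{u}) := isAffineOpen_top _
  haveI hh : IsAffine ((f ⁻¹ᵁ ⊤ : Y.Opens) : Scheme.{u}) := IsAffine.of_isIso (f ∣_ ⊤)
  haveI : IsAffine ((⊤ : Y.Opens) : Scheme.{u}) := hh
  haveI : IsAffine Y := IsAffine.of_isIso (Y.topIso.inv)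
  haveI : IsLocallyNoetherian Y := LocallyOfFiniteType.isLocallyNoetherian f
  haveI : Coh.IsQCoh (Coh.structureModule Y) := Groth.L16.CohClosedPush.isCoh_structure.1
  exact Groth.L17.subsingleton_HH_of_isAffine Y _ 0

variable {A : Type u} [CommRing A] [IsDomain A] [IsLocalRing A] [IsNoetherianRing A] [IsIntegrallyClosed A]

/-- A bound on the first cohomology of modifications gives one with rational singularities. -/
theorem exists_modification_rational (hN : CAlg.IsNagata A) (hdim : ringKrullDim A = 2)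
    (hA : ∃ N : ℕ, ∀ (X : Scheme.{u}) [X.Over (Spec (CommRingCat.of A))], IsProper (X ↘ Spec (CommRingCat.of A)) →
        IsIntegral X → Pi1.IsNormalScheme X →
        (∃ U : (Spec (CommRingCat.of A)).Opens, (U : Set (Spec (CommRingCat.of A))).Nonempty ∧ IsIso ((X ↘ Spec (CommRingCat.of A)) ∣_ U)) →
        Module.length A (Coh.HH X (Coh.structureModule X) 1) ≤ (N : ℕ∞)) :
    ∃ (X : Scheme.{u}) (f : X ⟶ Spec (CommRingCat.of A)), IsProper f ∧ IsIntegral X ∧ Pi1.IsNormalScheme X ∧
      (∃ U : (Spec (CommRingCat.of A)).Opens, (U : Set (Spec (CommRingCat.of A))).Nonempty ∧ IsIso (f ∣_ U)) ∧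
      RelProj.IsProjective f ∧
      ∀ x : X, IsClosed ({x} : Set X) → Curv2.IsRationalSing (X.presheaf.stalk x) := by
  classical
  obtain ⟨N, hN'⟩ := hA
  let P : ℕ → Prop := fun n => ∃ (X : Scheme.{u}) (_ : X.Over (Spec (CommRingCat.of A))),
    IsProper (X ↘ Spec (CommRingCat.of A)) ∧ IsIntegral X ∧ Pi1.IsNormalScheme X ∧
    (∃ U : (Spec (CommRingCat.of A)).Opens, (U : Set (Spec (CommRingCat.of A))).Nonempty ∧ IsIso ((X ↘ Spec (CommRingCat.of A)) ∣_ U)) ∧
    Module.length A (Coh.HH X (Coh.structureModule X) 1) = (n : ℕ∞)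
  have hSn : Pi1.IsNormalScheme (Spec (CommRingCat.of A)) := Groth.L05.NeronFinite.isNormalScheme_spec fun P _ =>
    ⟨inferInstance, isIntegrallyClosed_of_isLocalization _ P.primeCompl P.primeCompl_le_nonZeroDivisors⟩
  have hPle : ∀ n, P n → n ≤ N := by
    rintro n ⟨X, o, h1, h2, h3, h4, h5⟩
    exact_mod_cast h5 ▸ @hN' X o h1 h2 h3 h4
  have hPne : ∃ n, P n := by
    let o : (Spec (CommRingCat.of A)).Over (Spec (CommRingCat.of A)) := ⟨𝟙 _⟩
    have hid : IsIso (((Spec (CommRingCat.of A)) ↘ Spec (CommRingCat.of A)) ∣_ ⊤) :=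
      inferInstanceAs (IsIso ((𝟙 (Spec (CommRingCat.of A))) ∣_ ⊤))
    have hp : IsProper ((Spec (CommRingCat.of A)) ↘ Spec (CommRingCat.of A)) :=
      inferInstanceAs (IsProper (𝟙 (Spec (CommRingCat.of A))))
    have hb : ∃ U : (Spec (CommRingCat.of A)).Opens, (U : Set (Spec (CommRingCat.of A))).Nonempty ∧
        IsIso (((Spec (CommRingCat.of A)) ↘ Spec (CommRingCat.of A)) ∣_ U) := ⟨⊤, Set.univ_nonempty, hid⟩
    have hle := @hN' (Spec (CommRingCat.of A)) o hp inferInstance hSn hb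
    obtain ⟨m, hm⟩ := ENat.ne_top_iff_exists.1 (ne_top_of_le_ne_top (ENat.natCast_ne_top N) hle)
    exact ⟨m, _, o, hp, inferInstance, hSn, hb, hm.symm⟩
  obtain ⟨n₀, hn₀⟩ := hPne
  set n := Nat.findGreatest P N with hn
  obtain ⟨X₀, o₀, hp₀, hi₀, hn₀', hb₀, hl₀⟩ : P n := Nat.findGreatest_spec (hPle _ hn₀) hn₀
  haveI := hp₀
  haveI := hi₀
  obtain ⟨U, hUne, hUiso⟩ := id hb₀
  haveI := hUiso
  haveI : IsLocallyNoetherian X₀ := LocallyOfFiniteType.isLocallyNoetherian (X₀ ↘ Spec (CommRingCat.of A))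
  obtain ⟨𝓙, S', b, hbl, hadm, h, hh⟩ :=
    Groth.Agent.S1274.result (X₀ ↘ Spec (CommRingCat.of A)) U (TopologicalSpace.NoetherianSpace.isCompact _)
  have hIne : (𝓙.support.compl : Set (Spec (CommRingCat.of A))).Nonempty :=
    hUne.mono fun p hp hmem => Set.disjoint_left.1 hadm.2 hmem hp
  obtain ⟨Z, π, hZi, hπ, hZn, hπb, hIπ, hproj⟩ := exists_normalized_blowUp
    (X := Spec (CommRingCat.of A)) (Groth.L05.RatPow.isNagata_opens_spec hN) 𝓙 hIne
  haveI := hZi
  haveI := hπ
  obtain ⟨k, hk, -⟩ := hbl.2 Z π hIπ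
  letI : Z.Over (Spec (CommRingCat.of A)) := ⟨π⟩
  haveI : IsProper (Z ↘ Spec (CommRingCat.of A)) := hπ
  haveI := Groth.L17.PushQCoh.hasInjectiveResolutions Z
  obtain ⟨-, -, -, hlen⟩ := Groth.Agent.S7338.result A hdim X₀ Z hb₀ hπb hn₀' (k ≫ h)
    (by show (k ≫ h) ≫ _ = π; rw [Category.assoc, hh, hk])
  have hge : (n : ℕ∞) ≤ Module.length A (Coh.HH Z (Coh.structureModule Z) 1) := by
    rw [hlen, hl₀]; exact le_self_add
  have hmax : ∀ (W : Scheme.{u}) [W.Over (Spec (CommRingCat.of A))], IsProper (W ↘ Spec (CommRingCat.of A)) → IsIntegral W →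
      Pi1.IsNormalScheme W →
      (∃ U : (Spec (CommRingCat.of A)).Opens, (U : Set (Spec (CommRingCat.of A))).Nonempty ∧
        IsIso ((W ↘ Spec (CommRingCat.of A)) ∣_ U)) →
      Module.length A (Coh.HH W (Coh.structureModule W) 1) ≤ Module.length A (Coh.HH Z (Coh.structureModule Z) 1) := by
    intro W o h1 h2 h3 h4
    obtain ⟨m, hm⟩ := ENat.ne_top_iff_exists.1 (ne_top_of_le_ne_top (ENat.natCast_ne_top N) (@hN' W o h1 h2 h3 h4))
    have hPm : P m := ⟨W, o, h1, h2, h3, h4, hm.symm⟩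
    rw [← hm]
    exact le_trans (by exact_mod_cast Nat.le_findGreatest (hPle _ hPm) hPm) hge
  refine ⟨Z, π, hπ, hZi, hZn, hπb, hproj hadm.1, fun x hx => ?_⟩
  haveI := (hZn x).1
  haveI := (hZn x).2
  haveI : IsLocallyNoetherian Z := LocallyOfFiniteType.isLocallyNoetherian π
  haveI : IsNoetherianRing (Z.presheaf.stalk x) := inferInstance
  have hle2 : ringKrullDim (Z.presheaf.stalk x) ≤ 2 := by
    obtain ⟨W, hW, hWi⟩ := id hπb
    haveI := hWi
    refine (Groth.L13.ModFibre.ringKrullDim_stalk_le π W ?_ x).trans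
      ((Groth.L13.ModFibre.ringKrullDim_stalk_le_topologicalKrullDim _).trans
        ((PrimeSpectrum.topologicalKrullDim_eq_ringKrullDim A).trans hdim).le)
    obtain ⟨w, hw⟩ := hW
    obtain ⟨z, -⟩ := (π ∣_ W).homeomorph.surjective ⟨w, hw⟩
    exact ⟨z.1, z.2⟩
  by_cases h2 : ringKrullDim (Z.presheaf.stalk x) = 2
  · exact isRationalSing_stalk_of_max hN hdim hZn hπb
      (ne_top_of_le_ne_top (ENat.natCast_ne_top N) (hN' Z hπ hZi hZn hπb)) hmax x h2
  · refine isRationalSing_of_dim_le_one _ ?_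
    have hlt := lt_of_le_of_ne hle2 h2
    rcases hd : ringKrullDim (Z.presheaf.stalk x) with _ | d
    · exact bot_le
    · rw [hd] at hlt
      exact WithBot.coe_le_coe.2 (Order.le_of_lt_succ (by simpa [one_add_one_eq_two] using WithBot.coe_lt_coe.1 hlt))

end Groth.L05.RatSpread
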