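import Groth.Prelude.Def_Coh
import Mathlib.AlgebraicGeometry.Morphisms.Proper
import Mathlib.AlgebraicGeometry.FunctionField
import Mathlib.RingTheory.IntegralClosure.IntegrallyClosed

/-! Global functions on a modification of a normal affine scheme. -/

set_option autoImplicit false
set_option linter.style.haveILetI false
set_option backward.isDefEq.respectTransparency false

universe u

open CategoryTheory CategoryTheory.Limits AlgebraicGeometry TopologicalSpace Opposite

noncomputable section

namespace Groth.L05.RatPow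

variable {A : Type u} [CommRing A] [IsDomain A]

/-- The global functions of a modification of a normal affine scheme are the functions of the base. -/
theorem bijective_toGlobal [IsIntegrallyClosed A] {X : Scheme.{u}} (f : X ⟶ Spec (CommRingCat.of A)) [IsProper f]
    [IsIntegral X]
    (hbir : ∃ U : (Spec (CommRingCat.of A)).Opens, (U : Set (Spec (CommRingCat.of A))).Nonempty ∧ IsIso (f ∣_ U)) :
    Function.Bijective (Coh.toGlobal f) := by
  obtain ⟨U, hU, hiso⟩ := hbir
  haveI : IsIntegral (Spec (CommRingCat.of A)) := inferInstance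
  let W : X.Opens := f ⁻¹ᵁ U
  haveI : IsIso (f ∣_ U) := hiso
  have happ : ∀ V, V = U → IsIso (f.app V) → IsIso (f.app U) := by rintro V rfl h; exact h
  haveI : IsIso (f.app U) := happ _ U.ι_image_top (by
    have h := morphismRestrict_appTop f U
    haveI : IsIso (f.app (U.ι ''ᵁ ⊤) ≫ X.presheaf.map (eqToHom (image_morphismRestrict_preimage f U ⊤)).op) := by
      rw [← h]; infer_instance
    exact IsIso.of_isIso_comp_right _ (X.presheaf.map (eqToHom (image_morphismRestrict_preimage f U ⊤)).op))
  have hfU : Function.Bijective (f.app U) := ConcreteCategory.bijective_of_isIso (C := CommRingCat) _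
  obtain ⟨y, hy⟩ := hU
  haveI : Nonempty (U : Scheme.{u}) := ⟨⟨y, hy⟩⟩
  haveI : Nonempty U := ⟨⟨y, hy⟩⟩
  obtain ⟨z, -⟩ := (asIso (f ∣_ U)).hom.homeomorph.surjective ⟨y, hy⟩
  haveI : Nonempty W := ⟨⟨z.1, z.2⟩⟩
  have hres : Function.Injective (X.presheaf.map (homOfLE (le_top : W ≤ ⊤)).op) :=
    map_injective_of_isIntegral X (homOfLE (le_top : W ≤ ⊤))
  let σ : A →+* Γ((Spec (CommRingCat.of A)), U) :=
    ((Spec (CommRingCat.of A)).presheaf.map (homOfLE (le_top : U ≤ ⊤)).op).hom.comp (Scheme.ΓSpecIso (CommRingCat.of A)).inv.hom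
  have hσ : Function.Injective σ :=
    (map_injective_of_isIntegral (Spec (CommRingCat.of A)) (homOfLE (le_top : U ≤ ⊤))).comp
      (ConcreteCategory.bijective_of_isIso (C := CommRingCat) (Scheme.ΓSpecIso (CommRingCat.of A)).inv).1
  have hcomm : ∀ a, X.presheaf.map (homOfLE (le_top : W ≤ ⊤)).op (Coh.toGlobal f a) = f.app U (σ a) := fun a =>
    (congr($(f.naturality (homOfLE (le_top : U ≤ ⊤)).op) ((Scheme.ΓSpecIso (CommRingCat.of A)).inv a))).symm
  refine ⟨fun a b h => hσ (hfU.1 (by rw [← hcomm, ← hcomm, h])), fun b => ?_⟩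
  -- `b` is integral over `A`
  haveI : IsAffine (Spec (CommRingCat.of A)) := inferInstance
  have hint : (Coh.toGlobal f).IsIntegralElem b := by
    obtain ⟨p, hp, hpb⟩ := isIntegral_appTop_of_universallyClosed f b
    refine ⟨p.map (Scheme.ΓSpecIso (CommRingCat.of A)).hom.hom, hp.map _, ?_⟩
    rw [Polynomial.eval₂_map]
    refine (congrArg (fun φ => Polynomial.eval₂ φ b p) (RingHom.ext fun t => ?_ :
      (Coh.toGlobal f).comp (Scheme.ΓSpecIso (CommRingCat.of A)).hom.hom = f.appTop.hom)).trans hpb
    show f.appTop ((Scheme.ΓSpecIso (CommRingCat.of A)).inv ((Scheme.ΓSpecIso (CommRingCat.of A)).hom t)) = _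
    rw [Iso.hom_inv_id_apply]
    rfl
  -- it is a rational function of the base
  let g : Γ((Spec (CommRingCat.of A)), U) →+* (Spec (CommRingCat.of A)).functionField := ((Spec (CommRingCat.of A)).germToFunctionField U).hom
  have hg : Function.Injective g := Scheme.germToFunctionField_injective (Spec (CommRingCat.of A)) U
  haveI : IsDomain (CommRingCat.of A) := ‹IsDomain A›
  letI : Algebra A (Spec (CommRingCat.of A)).functionField :=
    RingHom.toAlgebra (StructureSheaf.toStalk A (genericPoint (Spec (CommRingCat.of A)))).hom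
  haveI : IsFractionRing A (Spec (CommRingCat.of A)).functionField :=
    functionField_isFractionRing_of_affine (CommRingCat.of A)
  have hgσ : ∀ a, g (σ a) = algebraMap A (Spec (CommRingCat.of A)).functionField a := fun a =>
    congr($((Spec (CommRingCat.of A)).presheaf.germ_res (homOfLE (le_top : U ≤ ⊤)) _ _)
      ((Scheme.ΓSpecIso (CommRingCat.of A)).inv a))
  obtain ⟨c, hc⟩ := hfU.2 (X.presheaf.map (homOfLE (le_top : W ≤ ⊤)).op b)
  have hci : _root_.IsIntegral A (g c) := by
    obtain ⟨p, hp, hpb⟩ := hint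
    refine ⟨p, hp, ?_⟩
    have h1 : p.eval₂ σ c = 0 := by
      refine hfU.1 ?_
      rw [map_zero]
      change (f.app U).hom _ = _
      rw [Polynomial.hom_eval₂]
      have h2 := congrArg (X.presheaf.map (homOfLE (le_top : W ≤ ⊤)).op).hom hpb
      rw [Polynomial.hom_eval₂, map_zero] at h2
      refine Eq.trans ?_ h2
      congr 1
      · ext a; exact (hcomm a).symm
    rw [← show g.comp σ = algebraMap A (Spec (CommRingCat.of A)).functionField from RingHom.ext hgσ,
      ← Polynomial.hom_eval₂, h1, map_zero]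
  obtain ⟨a, ha⟩ := IsIntegrallyClosed.isIntegral_iff.1 hci
  refine ⟨a, hres ?_⟩
  rw [hcomm, hg ((hgσ a).trans ha)]
  exact hc

end Groth.L05.RatPow
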