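import Groth.Prelude.Def_Models
import Groth.Agent.L16.Rees.StalkFF
import Groth.Agent.L19.VanishFibre.Noetherian
import Groth.Agent.L13.ModFibre
import Groth.Agent.L16.PushEdge
import Groth.Agent.L14.LocHilb.Lift.Obs.Transport
import Groth.Agent.L11.REq.FibreExtend
import Groth.Agent.L03.BlowPt.EulerInv
import Groth.Agent.L05.InterPair.Model
import Groth.Agent.L05.Models.ExtendMap
import Groth.Agent.L05.PtSeq.DomLocal
import Groth.Agent.L03.SurfAdj.Tools
import Groth.Agent.L22.CurveQuot
import Groth.Agent.L29.LocFree
import Groth.Agent.L17.PushQCoh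
import Groth.Agent.L17.ToAbRpush
import Groth.Agent.L16.CohClosedPush
import Groth.Agent.L05.Point.UnramFlat
import Groth.Agent.L13.Nagata.StrictIso

/-!
Vanishing of the first direct image of a modification of a surface with rational singularities.
-/

set_option autoImplicit false
set_option linter.style.haveILetI false
set_option maxHeartbeats 1000000
set_option backward.isDefEq.respectTransparency false
set_option backward.isDefEq.respectTransparency.types false

universe u

open CategoryTheory CategoryTheory.Limits AlgebraicGeometry TopologicalSpace Opposite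

noncomputable section

namespace Groth.L05.RatR1

variable {R : Type u} [CommRing R] [IsDomain R] [IsDiscreteValuationRing R]

open Groth.L05.FibreDecomp in
/-- A normal flat model of an integral scheme is integral. -/
theorem isIntegral_of_normal_model {X : Over (Spec (CommRingCat.of R))} [Flat X.hom]
    (hn : Pi1.IsNormalScheme X.left) {C : Scheme.{u}} [IsIntegral C]
    {f : C ⟶ Spec (CommRingCat.of (FractionRing R))} {g : C ⟶ X.left}
    (hg : IsPullback g f X.hom (Spec.map (CommRingCat.ofHom (algebraMap R (FractionRing R))))) :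
    IsIntegral X.left := by
  obtain ⟨ϖ, hϖ⟩ := IsDiscreteValuationRing.exists_irreducible R
  have hgen : ∀ x : X.left, g (genericPoint C) ⤳ x := fun x => by
    obtain ⟨_, ⟨W, hW, rfl⟩, hxW, -⟩ :=
      X.left.isBasis_affineOpens.exists_subset_of_mem_open (Set.mem_univ x) isOpen_univ
    haveI := (hn x).1
    obtain ⟨y, hyx, hy⟩ := exists_generization ⟨W, hW⟩ x hxW ⊥
    have hyT : y ∉ Models.specialFibreSet R X := by
      rw [← support_specialFibreIdeal, hy, stalkIdeal_specialFibreIdeal, le_bot_iff, hϖ.maximalIdeal_eq,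
        Ideal.map_span, Set.image_singleton, Ideal.span_singleton_eq_bot]
      exact stalkHom_ne_zero x hϖ.ne_zero
    have hpy : (X.hom.base y).asIdeal = ⊥ := by
      by_contra hne
      exact hyT (PrimeSpectrum.ext (IsLocalRing.eq_maximalIdeal
        ((X.hom.base y).2.isMaximal hne)))
    obtain ⟨c, hc, -⟩ := Scheme.exists_preimage_of_isPullback hg y
      (IsLocalRing.closedPoint (FractionRing R)) (PrimeSpectrum.ext (by
        show (X.hom.base y).asIdeal = _
        rw [hpy]
        refine (le_antisymm ?_ bot_le).symm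
        intro a ha
        have h1 : algebraMap R (FractionRing R) a ∈ IsLocalRing.maximalIdeal (FractionRing R) := ha
        rw [IsLocalRing.maximalIdeal_eq_bot, Ideal.mem_bot] at h1
        exact (IsFractionRing.to_map_eq_zero_iff).1 h1))
    rw [← hc] at hyx
    exact ((genericPoint_specializes c).map g.continuous).trans hyx
  haveI : IrreducibleSpace X.left :=
    { isPreirreducible_univ := by
        rw [show (Set.univ : Set X.left) = closure {g (genericPoint C)} from
          (Set.eq_univ_of_forall fun x => specializes_iff_mem_closure.1 (hgen x)).symm]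
        exact isPreirreducible_singleton.closure
      toNonempty := ⟨g (genericPoint C)⟩ }
  haveI : IsReduced X.left := by
    haveI : ∀ x, _root_.IsReduced (X.left.presheaf.stalk x) := fun x => by
      haveI := (hn x).1
      infer_instance
    exact isReduced_of_isReduced_stalk X.left
  exact isIntegral_of_irreducibleSpace_of_isReduced X.left

variable {X X' : Scheme.{u}} [IsIntegral X] [IsLocallyNoetherian X] [IsIntegral X'] (ρ : X' ⟶ X) [IsProper ρ]

/-- The first direct image vanishes at a rational point. -/
theorem subsingleton_stalk_R1 [HasInjectiveResolutions X'.Modules] (hn' : Pi1.IsNormalScheme X')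
    (hbir : ∃ U : X.Opens, (U : Set X).Nonempty ∧ IsIso (ρ ∣_ U)) (x : X)
    (hrat : Curv2.IsRationalSing (X.presheaf.stalk x)) :
    Subsingleton (((Coh.Rpush ρ 1).obj (Coh.structureModule X')).presheaf.stalk x) := by
  let O := X.presheaf.stalk x
  let X₁ := pullback ρ (X.fromSpecStalk x)
  let g : X₁ ⟶ X' := pullback.fst _ _
  letI : X₁.Over (Spec (CommRingCat.of O)) := ⟨pullback.snd ρ (X.fromSpecStalk x)⟩
  let f₁ : X₁ ⟶ Spec (CommRingCat.of O) := X₁ ↘ Spec (CommRingCat.of O)
  have hsq : IsPullback g f₁ ρ (X.fromSpecStalk x) := IsPullback.of_hasPullback _ _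
  haveI : IsProper f₁ := MorphismProperty.of_isPullback hsq inferInstance
  haveI : IsPreimmersion g := MorphismProperty.of_isPullback hsq.flip inferInstance
  haveI : Flat g := MorphismProperty.of_isPullback hsq.flip (Groth.L05.Point.flat_fromSpecStalk x)
  have hst := fun z => Groth.L11.REqHom.isIso_stalkMap_of_flat_preimmersion g z
  have hn₁ : Pi1.IsNormalScheme X₁ := fun z => by
    haveI := hst z
    haveI := (hn' (g z)).2
    exact ⟨(asIso (g.stalkMap z)).commRingCatIsoToRingEquiv.symm.injective.isDomain
      (asIso (g.stalkMap z)).commRingCatIsoToRingEquiv.symm.toRingHom,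
      IsIntegrallyClosed.of_equiv (asIso (g.stalkMap z)).commRingCatIsoToRingEquiv⟩
  obtain ⟨U, hU, hiso⟩ := id hbir
  haveI := hiso
  obtain ⟨e, -⟩ := Groth.L05.PtSeq.ffMap_bijective ρ U hU
  have hηx : genericPoint X ⤳ x := (genericPoint_spec X).specializes trivial
  obtain ⟨c, hc⟩ : ∃ c : Spec (CommRingCat.of O), X.fromSpecStalk x c = genericPoint X := by
    have h : genericPoint X ∈ Set.range (X.fromSpecStalk x) := by
      rw [Scheme.range_fromSpecStalk]; exact hηx
    exact h
  obtain ⟨z₀, hz₀, -⟩ := Scheme.exists_preimage_of_isPullback hsq (genericPoint X') c (e.trans hc.symm)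
  haveI : IrreducibleSpace X₁ :=
    { isPreirreducible_univ := by
        rw [show (Set.univ : Set X₁) = closure {z₀} from (Set.eq_univ_of_forall fun z => by
          refine specializes_iff_mem_closure.1 ?_
          rw [← g.isEmbedding.isInducing.specializes_iff, hz₀]
          exact (genericPoint_spec X').specializes trivial).symm]
        exact isPreirreducible_singleton.closure
      toNonempty := ⟨z₀⟩ }
  haveI : IsReduced X₁ := by
    haveI : ∀ z, _root_.IsReduced (X₁.presheaf.stalk z) := fun z => by
      haveI := (hn₁ z).1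
      infer_instance
    exact isReduced_of_isReduced_stalk X₁
  haveI : IsIntegral X₁ := isIntegral_of_irreducibleSpace_of_isReduced X₁
  have hbir₁ : ∃ V : (Spec (CommRingCat.of O)).Opens, (V : Set (Spec (CommRingCat.of O))).Nonempty ∧ IsIso (f₁ ∣_ V) := by
    refine ⟨X.fromSpecStalk x ⁻¹ᵁ U, ⟨c, ?_⟩, ?_⟩
    · show X.fromSpecStalk x c ∈ U
      rw [hc]
      exact Groth.L05.MinDesing.genericPoint_mem hU
    · exact Groth.L13.Nagata.isIso_restrict_of_isPullback hsq U _ fun _ h => h
  have h0 : Subsingleton (Coh.HH X₁ (Coh.structureModule X₁) 1) :=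
    hrat X₁ f₁ inferInstance inferInstance hn₁ hbir₁
  have hco : Coh.IsCoh (Coh.structureModule X') :=
    haveI : IsLocallyNoetherian X' := LocallyOfFiniteType.isLocallyNoetherian ρ
    Groth.L16.CohClosedPush.isCoh_structure
  obtain ⟨E⟩ := Groth.L16.Rees.exists_stalk_equiv ρ (Coh.structureModule X') hco x 1 g hsq
  haveI : Subsingleton (Coh.HH X₁ ((Scheme.Modules.pullback g).obj (Coh.structureModule X')) 1) :=
    Function.Injective.subsingleton (f := Groth.L16.CohLinear.hmap (Groth.L29.LocFree.pullbackUnitIso g).hom 1)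
      (Function.HasLeftInverse.injective
        ⟨Groth.L16.CohLinear.hmap (Groth.L29.LocFree.pullbackUnitIso g).inv 1, fun v => by
          rw [← Groth.L16.CohLinear.hmap_comp, Iso.hom_inv_id, Groth.L16.CohLinear.hmap_id]⟩)
  exact E.toEquiv.subsingleton

/-- The direct images of the structure sheaf of a modification of a surface with rational singularities. -/
theorem isZero_Rpush [CompactSpace X] [HasInjectiveResolutions X'.Modules] (hn' : Pi1.IsNormalScheme X')
    (hbir : ∃ U : X.Opens, (U : Set X).Nonempty ∧ IsIso (ρ ∣_ U)) (hdim : topologicalKrullDim X ≤ 2)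
    (hrat : ∀ x : X, IsClosed ({x} : Set X) → Curv2.IsRationalSing (X.presheaf.stalk x)) (q : ℕ) (hq : 0 < q) :
    IsZero ((Coh.Rpush ρ q).obj (Coh.structureModule X')) := by
  haveI : IsLocallyNoetherian X' := LocallyOfFiniteType.isLocallyNoetherian ρ
  have hco : Coh.IsCoh (Coh.structureModule X') := Groth.L16.CohClosedPush.isCoh_structure
  rw [Groth.L21.Mod.isZero_iff_support_eq_empty]
  by_contra hne
  have hR := Groth.L17.ProperCoh.isCoh_Rpush ρ (Coh.structureModule X') hco q
  obtain ⟨y, hy, hyc⟩ := (Groth.L16.CohSupport.isClosed_support _ hR.2).exists_closed_singleton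
    (Set.nonempty_iff_ne_empty.2 hne)
  rcases Nat.lt_or_ge 1 q with h1 | h1
  · obtain ⟨U, hU, hiso⟩ := hbir
    haveI := hiso
    obtain ⟨u, hu⟩ := hU
    obtain ⟨z, hz⟩ := (ρ ∣_ U).homeomorph.surjective ⟨u, hu⟩
    refine hy (Groth.L19.VanishFibre.subsingleton_stalk_Rpush ρ y (d := 1) ?_ _ hco h1)
    exact Groth.L13.ModFibre.topologicalKrullDim_fiber_le_one ρ U ⟨z.1, z.2⟩ (fun w =>
      (Groth.L13.ModFibre.ringKrullDim_stalk_le ρ U ⟨z.1, z.2⟩ w).trans
        ((Groth.L13.ModFibre.ringKrullDim_stalk_le_topologicalKrullDim _).trans hdim)) y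
  · obtain rfl : q = 1 := by omega
    exact hy (subsingleton_stalk_R1 ρ hn' hbir y (hrat y hyc))

end Groth.L05.RatR1
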