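import Groth.Agent.L05.RatPow.Normal
import Groth.Agent.L05.RatPow.Birat
import Groth.Agent.L05.RatPow.R1
import Groth.Agent.L13.BlowUp.Exists
import Groth.Agent.L20.SeeNormal.Sheaf
import Groth.Agent.S7338
import Groth.Agent.S1274
import Groth.Agent.S10945
import Groth.Agent.L06.BlowProj
import Groth.Agent.L18.FiniteProjective
import Groth.Agent.L13.Nagata.Chow

/-! Rational singularities pass to the local rings of normal modifications. -/

set_option autoImplicit false
set_option linter.style.haveILetI false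
set_option maxHeartbeats 1000000
set_option backward.isDefEq.respectTransparency false
set_option backward.isDefEq.respectTransparency.types false

universe u

open CategoryTheory CategoryTheory.Limits AlgebraicGeometry TopologicalSpace Opposite

noncomputable section

namespace Groth.L05.RatSpread

open Groth.L05.MinDesing (IsBir)

/-- A scheme which is reduced outside an effective Cartier divisor is reduced. -/
theorem isReduced_of_effCartier {X : Scheme.{u}} {I : X.IdealSheafData} (hI : BlowUp.IsEffCartierIdeal I)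
    (h : ∀ y : X, y ∉ (I.support : Set X) → _root_.IsReduced (X.presheaf.stalk y)) : IsReduced X := by
  haveI : ∀ y : X, _root_.IsReduced (X.presheaf.stalk y) := fun y => by
    obtain ⟨U, hyU, g, hg, hgI⟩ := hI y
    haveI := U.2.isLocalization_basicOpen g
    letI : Algebra Γ(X, U.1) Γ(X, X.basicOpen g) := (X.presheaf.map (homOfLE (X.basicOpen_le g)).op).hom.toAlgebra
    have hinj : Function.Injective (algebraMap Γ(X, U.1) Γ(X, X.basicOpen g)) :=
      IsLocalization.injective (R := Γ(X, U.1)) (M := Submonoid.powers g) Γ(X, X.basicOpen g) (Submonoid.powers_le.2 hg)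
    haveI : ∀ z : ↥(X.basicOpen g : Scheme.{u}), _root_.IsReduced ((X.basicOpen g : Scheme.{u}).presheaf.stalk z) := fun z => by
      haveI : _root_.IsReduced (X.presheaf.stalk z.1) := h z.1 fun hz => by
        rw [SetLike.mem_coe, Scheme.IdealSheafData.mem_support_iff_of_mem (U := U) (X.basicOpen_le g z.2), hgI] at hz
        exact (Scheme.mem_zeroLocus_iff _ _ _).1 hz g (Ideal.mem_span_singleton_self g) z.2
      exact isReduced_of_injective ((X.basicOpen g).stalkIso z).hom.hom
        (ConcreteCategory.bijective_of_isIso ((X.basicOpen g).stalkIso z).hom).1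
    haveI : IsReduced (X.basicOpen g : Scheme.{u}) := isReduced_of_isReduced_stalk _
    haveI : _root_.IsReduced Γ(X, X.basicOpen g) :=
      isReduced_of_injective (X.basicOpen g).topIso.inv.hom
        (ConcreteCategory.bijective_of_isIso (X.basicOpen g).topIso.inv).1
    haveI : _root_.IsReduced Γ(X, U.1) := isReduced_of_injective _ hinj
    letI := TopCat.Presheaf.algebra_section_stalk X.presheaf ⟨y, hyU⟩
    haveI := U.2.isLocalization_stalk ⟨y, hyU⟩
    exact isReduced_localizationPreserves (U.2.primeIdealOf ⟨y, hyU⟩).asIdeal.primeCompl (X.presheaf.stalk y) inferInstance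
  exact isReduced_of_isReduced_stalk X

/-- An effective Cartier ideal stays one along a map of integral schemes respecting generic points. -/
theorem isEffCartier_comap {W Z : Scheme.{u}} [IsIntegral W] [IsIntegral Z] (h : W ⟶ Z)
    (hη : h (genericPoint W) = genericPoint Z) {I : Z.IdealSheafData} (hI : BlowUp.IsEffCartierIdeal I) :
    BlowUp.IsEffCartierIdeal (I.comap h) := by
  intro y
  obtain ⟨U, hyU, g, hg, hgI⟩ := hI (h y)
  obtain ⟨V, hV, hyV, hle⟩ := exists_isAffineOpen_mem_and_subset (x := y) (U := h ⁻¹ᵁ U.1) hyU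
  let V' : W.affineOpens := ⟨V, hV⟩
  haveI : Nonempty (V'.1 : W.Opens) := ⟨⟨y, hyV⟩⟩
  haveI : IsDomain Γ(W, V'.1) := inferInstance
  refine ⟨V', hyV, (h.appLE U.1 V fun z hz => hle hz).hom g, mem_nonZeroDivisors_of_ne_zero fun h0 => ?_, ?_⟩
  · haveI : Nonempty U.1 := ⟨⟨_, hyU⟩⟩
    refine nonZeroDivisors.ne_zero hg (germ_injective_of_isIntegral Z (genericPoint Z)
      ((genericPoint_specializes _).mem_open U.1.2 hyU) (?_ : _ = (Z.presheaf.germ U.1 _ _) 0))
    rw [map_zero]
    have hηV : genericPoint W ∈ V := (genericPoint_specializes y).mem_open V.2 hyV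
    by_contra hu
    have hu' : IsUnit (Z.presheaf.germ U.1 (genericPoint Z) ((genericPoint_specializes _).mem_open U.1.2 hyU) g) :=
      Ne.isUnit (G₀ := Z.functionField) hu
    have h1 : genericPoint Z ∈ Z.basicOpen g := (Z.mem_basicOpen g _ _).2 hu'
    have h2 : genericPoint W ∈ h ⁻¹ᵁ Z.basicOpen g := by
      show h (genericPoint _) ∈ Z.basicOpen g
      rw [hη]; exact h1
    rw [Scheme.preimage_basicOpen] at h2
    have h3 : genericPoint W ∈ V ⊓ W.basicOpen (h.app U.1 g) := ⟨hηV, h2⟩
    rw [← Scheme.basicOpen_res _ _ (homOfLE (show V ≤ h ⁻¹ᵁ U.1 from fun z hz => hle hz)).op] at h3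
    rw [Scheme.Hom.appLE] at h0
    rw [show W.presheaf.map (homOfLE (show V ≤ h ⁻¹ᵁ U.1 from fun z hz => hle hz)).op (h.app U.1 g)
      = 0 from h0, Scheme.basicOpen_zero] at h3
    exact h3
  · rw [Groth.L22.Ideals.comap_ideal h _ U V' (fun z hz => hle hz), hgI, Ideal.map_span, Set.image_singleton]

theorem fromSpecStalk_genericPoint {X : Scheme.{u}} [IsIntegral X] (x : X) [IsDomain (X.presheaf.stalk x)] :
    X.fromSpecStalk x (genericPoint (Spec (X.presheaf.stalk x))) = genericPoint X := by
  have hηx : genericPoint X ⤳ x := (genericPoint_spec X).specializes trivial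
  obtain ⟨c, hc⟩ : genericPoint X ∈ Set.range (X.fromSpecStalk x) := by
    rw [Scheme.range_fromSpecStalk]; exact hηx
  refine (Specializes.antisymm ?_ ((genericPoint_spec X).specializes trivial)).eq
  rw [← hc]
  exact ((genericPoint_spec (Spec (X.presheaf.stalk x))).specializes trivial).map (X.fromSpecStalk x).continuous

/-- An ideal of a local ring comes from its extension to the scheme. -/
theorem comap_map_fromSpecStalk {X : Scheme.{u}} (x : X) [QuasiCompact (X.fromSpecStalk x)]
    (J : (Spec (X.presheaf.stalk x)).IdealSheafData) :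
    (J.map (X.fromSpecStalk x)).comap (X.fromSpecStalk x) = J := by
  obtain ⟨V, hV, hxV, -⟩ := exists_isAffineOpen_mem_and_subset (x := x) (U := (⊤ : X.Opens)) trivial
  have hle : (⊤ : (Spec (X.presheaf.stalk x)).Opens) ≤ X.fromSpecStalk x ⁻¹ᵁ V := fun z _ =>
    ((IsLocalRing.specializes_closedPoint z).map (X.fromSpecStalk x).continuous).mem_open V.2
      (by rw [Scheme.fromSpecStalk_closedPoint]; exact hxV)
  have htop : X.fromSpecStalk x ⁻¹ᵁ V = ⊤ := top_le_iff.1 hle
  have H : IsAffineOpen (X.fromSpecStalk x ⁻¹ᵁ V) := htop ▸ isAffineOpen_top _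
  refine Scheme.IdealSheafData.ext_of_isAffine ?_
  rw [Groth.L22.Ideals.comap_ideal (X.fromSpecStalk x) _ ⟨V, hV⟩ ⟨⊤, isAffineOpen_top _⟩ hle,
    Scheme.IdealSheafData.ideal_map J (X.fromSpecStalk x) ⟨V, hV⟩ H]
  have hm := J.map_ideal (U := ⟨⊤, isAffineOpen_top _⟩) (V := ⟨_, H⟩) hle
  rw [← hm]
  have happ : (X.fromSpecStalk x).appLE V ⊤ hle =
      X.presheaf.germ V x hxV ≫ (Scheme.ΓSpecIso (X.presheaf.stalk x)).inv :=
    Groth.L20.SeeNormal.fromSpecStalk_appLE x hxV hle
  let σ : Γ(Spec (X.presheaf.stalk x), X.fromSpecStalk x ⁻¹ᵁ V) →+* Γ(Spec (X.presheaf.stalk x), ⊤) :=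
    ((Spec (X.presheaf.stalk x)).presheaf.map (homOfLE hle).op).hom
  have hσ : Function.Bijective σ := by
    haveI : IsIso (homOfLE hle) := ⟨homOfLE htop.le, Subsingleton.elim _ _, Subsingleton.elim _ _⟩
    exact ConcreteCategory.bijective_of_isIso ((Spec (X.presheaf.stalk x)).presheaf.map (homOfLE hle).op)
  let γ : Γ(X, V) →+* Γ(Spec (X.presheaf.stalk x), ⊤) := ((X.fromSpecStalk x).appLE V ⊤ hle).hom
  have hγ : γ = σ.comp ((X.fromSpecStalk x).app V).hom := rfl
  show Ideal.map γ ((J.ideal ⟨_, H⟩).comap ((X.fromSpecStalk x).app V).hom) = Ideal.map σ (J.ideal ⟨_, H⟩)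
  set K := J.ideal ⟨_, H⟩
  refine le_antisymm ?_ fun z hz => ?_
  · rw [hγ, ← Ideal.map_map]
    exact Ideal.map_mono Ideal.map_comap_le
  · obtain ⟨k, hk, rfl⟩ := (Ideal.mem_map_iff_of_surjective σ hσ.2).1 hz
    let e := (Scheme.ΓSpecIso (X.presheaf.stalk x)).commRingCatIsoToRingEquiv
    letI := TopCat.Presheaf.algebra_section_stalk X.presheaf ⟨x, hxV⟩
    haveI := hV.isLocalization_stalk ⟨x, hxV⟩
    obtain ⟨⟨r, s⟩, hrs⟩ := IsLocalization.surj (hV.primeIdealOf ⟨x, hxV⟩).asIdeal.primeCompl (e (σ k))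
    have hg : ∀ t : Γ(X, V), γ t = e.symm (algebraMap Γ(X, V) (X.presheaf.stalk x) t) := fun t => by
      show ((X.fromSpecStalk x).appLE V ⊤ hle).hom t = _
      rw [happ]
      rfl
    have hr : r ∈ K.comap ((X.fromSpecStalk x).app V).hom := by
      rw [Ideal.mem_comap]
      obtain ⟨w, hw⟩ := hσ.2 (γ s)
      have h1 : σ (((X.fromSpecStalk x).app V).hom r) = σ (k * w) := by
        rw [map_mul, hw]
        show γ r = _
        rw [hg r, hg, ← hrs, map_mul, RingEquiv.symm_apply_apply]
      rw [hσ.1 h1]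
      exact Ideal.mul_mem_right _ _ hk
    have hu : IsUnit (γ s) := by
      rw [hg]; exact (IsLocalization.map_units (X.presheaf.stalk x) s).map e.symm
    refine (Ideal.mul_unit_mem_iff_mem _ hu).1 ?_
    have h2 : σ k * γ s = γ r := by rw [hg, hg, ← hrs, map_mul, RingEquiv.symm_apply_apply]
    rw [h2]
    exact Ideal.mem_map_of_mem _ hr

/-- The normalised blowing up of an integral scheme with Nagata affine rings. -/
theorem exists_normalized_blowUp {X : Scheme.{u}} [IsIntegral X] [AlgebraicGeometry.IsNoetherian X]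
    (hN : ∀ U : X.affineOpens, CAlg.IsNagata Γ(X, U.1)) (I : X.IdealSheafData)
    (hI : (I.support.compl : Set X).Nonempty) :
    ∃ (Z : Scheme.{u}) (π : Z ⟶ X) (_ : IsIntegral Z), IsProper π ∧ Pi1.IsNormalScheme Z ∧ IsBir π ∧
      BlowUp.IsEffCartierIdeal (I.comap π) ∧ (BlowUp.IsFiniteTypeIdeal I → RelProj.IsProjective π) := by
  obtain ⟨P, q, hq⟩ := Groth.L13.BU.exists_isBlowUp I
  haveI := Groth.Agent.L13.BlowTwo.irreducible_blowUp q hq hI
  have hiso := Groth.L22.Ideals.isIso_restrict_compl hq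
  haveI : IsReduced P := by
    refine isReduced_of_effCartier hq.1 fun y hy => ?_
    have hyU : y ∈ q ⁻¹ᵁ I.support.compl := fun h => hy (by
      rw [Scheme.IdealSheafData.support_comap]; exact h)
    haveI : _root_.IsReduced (X.presheaf.stalk (q y)) := inferInstance
    haveI : IsIso (q.stalkMap y) :=
      ((MorphismProperty.isomorphisms CommRingCat).arrow_mk_iso_iff
        (morphismRestrictStalkMap q I.support.compl ⟨y, hyU⟩)).mp
        (inferInstanceAs (IsIso ((q ∣_ I.support.compl).stalkMap ⟨y, hyU⟩)))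
    exact isReduced_of_injective (inv (q.stalkMap y)).hom (ConcreteCategory.bijective_of_isIso _).1
  haveI : IsIntegral P := isIntegral_of_irreducibleSpace_of_isReduced P
  haveI : IsProper q := Groth.L13.BU.isProper_blowUp hq fun U => by
    haveI : IsNoetherianRing Γ(X, U.1) := IsLocallyNoetherian.component_noetherian U
    exact IsNoetherian.noetherian _
  haveI : IsLocallyNoetherian P := LocallyOfFiniteType.isLocallyNoetherian q
  have hNP := Groth.L05.PtSeq.isNagata_affineOpens_of_lft q hN
  haveI := Groth.L22.Norm.isFinite_normalizationι P hNP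
  haveI : CompactSpace P := QuasiCompact.compactSpace_of_compactSpace q
  obtain ⟨hi, hn, -, ⟨hgen, -⟩⟩ := Groth.Agent.S2351.result P
  haveI := hi
  refine ⟨Curv2.normalization P, Curv2.normalizationι P ≫ q, hi, inferInstance, hn,
    Groth.L05.MinDesing.isBir_comp _ q (Groth.L22.BM.exists_isIso_normalizationι P) ⟨_, hI, hiso⟩, ?_, ?_⟩
  · rw [Scheme.IdealSheafData.comap_comp]
    exact isEffCartier_comap _ hgen hq.1
  · exact fun hft => Groth.L13.Nagata.isProjective_comp _ q (Groth.L18.FinProj.isProjective_of_isFinite _)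
      (Groth.L06.BlowProj.isProjective_of_isBlowUp I hft q hq)

section Local

variable {X Z : Scheme.{u}} [IsIntegral X] [IsIntegral Z] (π : Z ⟶ X)

/-- A modification restricted to a local ring. -/
theorem localModification [IsLocallyNoetherian X] [IsProper π] (hn : Pi1.IsNormalScheme Z) (hbir : IsBir π) (x : X)
    [IsDomain (X.presheaf.stalk x)] :
    IsIntegral (pullback π (X.fromSpecStalk x)) ∧ IsProper (pullback.snd π (X.fromSpecStalk x)) ∧
      Pi1.IsNormalScheme (pullback π (X.fromSpecStalk x)) ∧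
      (∃ V : (Spec (X.presheaf.stalk x)).Opens, (V : Set (Spec (X.presheaf.stalk x))).Nonempty ∧
        IsIso (pullback.snd π (X.fromSpecStalk x) ∣_ V)) ∧
      ∀ z : ↥(pullback π (X.fromSpecStalk x) : Scheme.{u}), pullback.fst π (X.fromSpecStalk x) z = genericPoint Z →
        ∀ w, z ⤳ w := by
  let g := pullback.fst π (X.fromSpecStalk x)
  have hsq : IsPullback g (pullback.snd π (X.fromSpecStalk x)) π (X.fromSpecStalk x) := IsPullback.of_hasPullback _ _
  haveI : IsPreimmersion g := MorphismProperty.of_isPullback hsq.flip inferInstance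
  haveI : Flat g := MorphismProperty.of_isPullback hsq.flip (Groth.L05.Point.flat_fromSpecStalk x)
  have hst := fun z => Groth.L11.REqHom.isIso_stalkMap_of_flat_preimmersion g z
  have hn₁ : Pi1.IsNormalScheme (pullback π (X.fromSpecStalk x)) := fun z => by
    haveI := hst z
    haveI := (hn (g z)).2
    haveI := (hn (g z)).1
    exact ⟨(asIso (g.stalkMap z)).commRingCatIsoToRingEquiv.symm.injective.isDomain
      (asIso (g.stalkMap z)).commRingCatIsoToRingEquiv.symm.toRingHom,
      IsIntegrallyClosed.of_equiv (asIso (g.stalkMap z)).commRingCatIsoToRingEquiv⟩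
  obtain ⟨U, hU, hiso⟩ := id hbir
  haveI := hiso
  obtain ⟨e, -⟩ := Groth.L05.PtSeq.ffMap_bijective π U hU
  have hc := fromSpecStalk_genericPoint x
  obtain ⟨z₀, hz₀, -⟩ := Scheme.exists_preimage_of_isPullback hsq (genericPoint Z) _ (e.trans hc.symm)
  have hgen : ∀ z, z₀ ⤳ z := fun z => by
    rw [← g.isEmbedding.isInducing.specializes_iff, hz₀]
    exact (genericPoint_spec Z).specializes trivial
  haveI : IrreducibleSpace ↥(pullback π (X.fromSpecStalk x)) :=
    { isPreirreducible_univ := by
        rw [show (Set.univ : Set ↥(pullback π (X.fromSpecStalk x))) = closure {z₀} from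
          (Set.eq_univ_of_forall fun z => specializes_iff_mem_closure.1 (hgen z)).symm]
        exact isPreirreducible_singleton.closure
      toNonempty := ⟨z₀⟩ }
  haveI : IsReduced (pullback π (X.fromSpecStalk x)) := by
    haveI : ∀ z, _root_.IsReduced ((pullback π (X.fromSpecStalk x)).presheaf.stalk z) := fun z => by
      haveI := (hn₁ z).1
      infer_instance
    exact isReduced_of_isReduced_stalk _
  refine ⟨isIntegral_of_irreducibleSpace_of_isReduced _, MorphismProperty.of_isPullback hsq inferInstance, hn₁,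
    ⟨X.fromSpecStalk x ⁻¹ᵁ U, ⟨genericPoint (Spec (X.presheaf.stalk x)), ?_⟩,
      Groth.L13.Nagata.isIso_restrict_of_isPullback hsq U _ fun _ h => h⟩, fun z hz => ?_⟩
  · show X.fromSpecStalk x _ ∈ U
    rw [hc]
    exact Groth.L05.MinDesing.genericPoint_mem hU
  · rw [show z = z₀ from g.isEmbedding.injective (hz.trans hz₀.symm)]
    exact hgen

end Local

variable {A : Type u} [CommRing A] [IsDomain A] [IsLocalRing A] [IsNoetherianRing A] [IsIntegrallyClosed A]

/-- The local rings of dimension two of a normal modification maximising the first cohomology are rational. -/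
theorem isRationalSing_stalk_of_max (hN : CAlg.IsNagata A) (hdim : ringKrullDim A = 2)
    {X : Scheme.{u}} [X.Over (Spec (CommRingCat.of A))] [IsProper (X ↘ Spec (CommRingCat.of A))] [IsIntegral X]
    (hXn : Pi1.IsNormalScheme X)
    (hX : ∃ U : (Spec (CommRingCat.of A)).Opens, (U : Set (Spec (CommRingCat.of A))).Nonempty ∧
      IsIso ((X ↘ Spec (CommRingCat.of A)) ∣_ U))
    (hfin : Module.length A (Coh.HH X (Coh.structureModule X) 1) ≠ ⊤)
    (hmax : ∀ (Z : Scheme.{u}) [Z.Over (Spec (CommRingCat.of A))], IsProper (Z ↘ Spec (CommRingCat.of A)) → IsIntegral Z →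
      Pi1.IsNormalScheme Z →
      (∃ U : (Spec (CommRingCat.of A)).Opens, (U : Set (Spec (CommRingCat.of A))).Nonempty ∧
        IsIso ((Z ↘ Spec (CommRingCat.of A)) ∣_ U)) →
      Module.length A (Coh.HH Z (Coh.structureModule Z) 1) ≤ Module.length A (Coh.HH X (Coh.structureModule X) 1))
    (x : X) (hx : ringKrullDim (X.presheaf.stalk x) = 2) : Curv2.IsRationalSing (X.presheaf.stalk x) := by
  intro Y fY hYp hYi hYn hYb
  haveI := hYp
  haveI := hYi
  haveI : IsLocallyNoetherian X := LocallyOfFiniteType.isLocallyNoetherian (X ↘ Spec (CommRingCat.of A))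
  haveI : CompactSpace X := QuasiCompact.compactSpace_of_compactSpace (X ↘ Spec (CommRingCat.of A))
  haveI : AlgebraicGeometry.IsNoetherian X := {}
  haveI := (hXn x).1
  haveI := (hXn x).2
  haveI : QuasiCompact (X.fromSpecStalk x) := inferInstance
  obtain ⟨U, hUne, hUiso⟩ := id hYb
  haveI := hUiso
  obtain ⟨𝓙, S', b, hb, hadm, h, hh⟩ := Groth.Agent.S1274.result fY U (NoetherianSpace.isCompact _)
  set I := 𝓙.map (X.fromSpecStalk x)
  have hcomap : I.comap (X.fromSpecStalk x) = 𝓙 := comap_map_fromSpecStalk x 𝓙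
  have hηU : genericPoint (Spec (X.presheaf.stalk x)) ∈ U := Groth.L05.MinDesing.genericPoint_mem hUne
  have hIne : (I.support.compl : Set X).Nonempty := by
    refine ⟨genericPoint X, fun hmem => Set.disjoint_left.1 hadm.2 ?_ hηU⟩
    rw [← hcomap, Scheme.IdealSheafData.support_comap]
    show X.fromSpecStalk x _ ∈ (I.support : Set X)
    rw [fromSpecStalk_genericPoint]
    exact hmem
  have hNX := Groth.L05.PtSeq.isNagata_affineOpens_of_lft (X ↘ Spec (CommRingCat.of A))
    (Groth.L05.RatPow.isNagata_opens_spec hN)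
  obtain ⟨Z, π, hZi, hπ, hZn, hπb, hIπ, -⟩ := exists_normalized_blowUp hNX I hIne
  haveI := hZi
  haveI := hπ
  letI : Z.Over (Spec (CommRingCat.of A)) := ⟨π ≫ (X ↘ Spec (CommRingCat.of A))⟩
  haveI : IsProper (Z ↘ Spec (CommRingCat.of A)) := inferInstanceAs (IsProper (π ≫ (X ↘ Spec (CommRingCat.of A))))
  have hZb : ∃ V : (Spec (CommRingCat.of A)).Opens, (V : Set (Spec (CommRingCat.of A))).Nonempty ∧
      IsIso ((Z ↘ Spec (CommRingCat.of A)) ∣_ V) := Groth.L05.MinDesing.isBir_comp π _ hπb hX
  haveI := Groth.L17.PushQCoh.hasInjectiveResolutions Z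
  obtain ⟨hgg, -, -, hlen⟩ := Groth.Agent.S7338.result A hdim X Z hX hZb hXn π rfl
  have hle := hmax Z inferInstance hZi hZn hZb
  rw [hlen] at hle
  have h0 : Subsingleton (Coh.HH X ((Coh.Rpush π 1).obj (Coh.structureModule Z)) 0) := by
    rw [← Module.length_eq_zero_iff (R := A)]
    exact le_antisymm ((ENat.add_le_add_iff_left hfin).1 (hle.trans (add_zero _).ge)) bot_le
  have hzero : 𝟙 ((Coh.Rpush π 1).obj (Coh.structureModule Z)) = 0 := by
    refine Groth.Agent.S10945.eq_zero_of_kills hgg _ fun t => ?_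
    haveI := h0
    have ht : t = 0 := (Groth.L21.RR.e0 ((Coh.Rpush π 1).obj (Coh.structureModule Z))).symm.injective (Subsingleton.elim _ _)
    rw [ht]
    exact map_zero _
  haveI hst : Subsingleton (((Coh.Rpush π 1).obj (Coh.structureModule Z)).presheaf.stalk x) :=
    (Groth.L21.Mod.isZero_iff_stalk_subsingleton _).1 ((IsZero.iff_id_eq_zero _).2 hzero) x
  obtain ⟨hZ₁i, hZ₁p, hZ₁n, hZ₁b, hZ₁η⟩ := localModification π hZn hπb x
  let Z₁ := pullback π (X.fromSpecStalk x)
  let g : Z₁ ⟶ Z := pullback.fst _ _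
  haveI := hZ₁i
  letI : Z₁.Over (Spec (CommRingCat.of (X.presheaf.stalk x))) := ⟨pullback.snd π (X.fromSpecStalk x)⟩
  haveI : IsProper (Z₁ ↘ Spec (CommRingCat.of (X.presheaf.stalk x))) := hZ₁p
  have hsq : IsPullback g (Z₁ ↘ Spec (CommRingCat.of (X.presheaf.stalk x))) π (X.fromSpecStalk x) :=
    IsPullback.of_hasPullback _ _
  haveI : IsLocallyNoetherian Z := LocallyOfFiniteType.isLocallyNoetherian π
  obtain ⟨E⟩ := Groth.L16.Rees.exists_stalk_equiv π (Coh.structureModule Z) Groth.L16.CohClosedPush.isCoh_structure x 1 g hsq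
  haveI : Subsingleton (Coh.HH Z₁ ((Scheme.Modules.pullback g).obj (Coh.structureModule Z)) 1) :=
    E.symm.toEquiv.subsingleton
  haveI hZ₁H : Subsingleton (Coh.HH Z₁ (Coh.structureModule Z₁) 1) :=
    Function.Surjective.subsingleton (f := Groth.L16.CohLinear.hmap (Groth.L29.LocFree.pullbackUnitIso g).hom 1)
      fun v => ⟨Groth.L16.CohLinear.hmap (Groth.L29.LocFree.pullbackUnitIso g).inv 1 v, by
        rw [← Groth.L16.CohLinear.hmap_comp, Iso.inv_hom_id, Groth.L16.CohLinear.hmap_id]⟩
  have hη : g (genericPoint Z₁) = genericPoint Z := by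
    haveI := hπb.choose_spec.2
    obtain ⟨e, -⟩ := Groth.L05.PtSeq.ffMap_bijective π hπb.choose hπb.choose_spec.1
    obtain ⟨z₀, hz₀, -⟩ := Scheme.exists_preimage_of_isPullback hsq (genericPoint Z) _
      (e.trans (fromSpecStalk_genericPoint x).symm)
    rw [← (((genericPoint_spec Z₁).specializes trivial).antisymm (hZ₁η z₀ hz₀ _)).eq] at hz₀
    exact hz₀
  have hcart : BlowUp.IsEffCartierIdeal (𝓙.comap (Z₁ ↘ Spec (CommRingCat.of (X.presheaf.stalk x)))) := by
    rw [← hcomap, ← Scheme.IdealSheafData.comap_comp, ← hsq.w, Scheme.IdealSheafData.comap_comp]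
    exact isEffCartier_comap g hη hIπ
  obtain ⟨k, hk, -⟩ := hb.2 Z₁ _ hcart
  letI : Y.Over (Spec (CommRingCat.of (X.presheaf.stalk x))) := ⟨fY⟩
  haveI : IsProper (Y ↘ Spec (CommRingCat.of (X.presheaf.stalk x))) := hYp
  haveI := Groth.L17.PushQCoh.hasInjectiveResolutions Z₁
  obtain ⟨-, -, -, hlen₁⟩ := Groth.Agent.S7338.result (X.presheaf.stalk x) hx Y Z₁ hYb hZ₁b hYn (k ≫ h)
    (by show (k ≫ h) ≫ fY = _; rw [Category.assoc, hh, hk])
  rw [Module.length_eq_zero] at hlen₁
  rw [← Module.length_eq_zero_iff (R := X.presheaf.stalk x)]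
  exact (add_eq_zero.1 hlen₁.symm).1

/-- The local rings of dimension two of a normal modification of a rational singularity are rational. -/
theorem isRationalSing_stalk (hN : CAlg.IsNagata A) (hdim : ringKrullDim A = 2) (hA : Curv2.IsRationalSing A)
    {X : Scheme.{u}} [X.Over (Spec (CommRingCat.of A))] [IsProper (X ↘ Spec (CommRingCat.of A))] [IsIntegral X]
    (hXn : Pi1.IsNormalScheme X)
    (hX : ∃ U : (Spec (CommRingCat.of A)).Opens, (U : Set (Spec (CommRingCat.of A))).Nonempty ∧
      IsIso ((X ↘ Spec (CommRingCat.of A)) ∣_ U))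
    (x : X) (hx : ringKrullDim (X.presheaf.stalk x) = 2) : Curv2.IsRationalSing (X.presheaf.stalk x) := by
  haveI := hA X (X ↘ Spec (CommRingCat.of A)) inferInstance inferInstance hXn hX
  refine isRationalSing_stalk_of_max hN hdim hXn hX ?_ (fun Z _ hp hi hn hb => ?_) x hx
  · rw [Module.length_eq_zero]; exact ENat.zero_ne_top
  · haveI := hA Z (Z ↘ Spec (CommRingCat.of A)) hp hi hn hb
    rw [Module.length_eq_zero]
    exact bot_le

/-- Rational singularities are invariant under ring isomorphisms. -/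
theorem isRationalSing_of_equiv {R S : Type u} [CommRing R] [CommRing S] [IsDomain S] (e : R ≃+* S)
    (h : Curv2.IsRationalSing R) : Curv2.IsRationalSing S := by
  intro X f hp hi hn hb
  haveI := hp
  haveI := hi
  haveI : IsIso (CommRingCat.ofHom e.toRingHom) := e.toCommRingCatIso.isIso_hom
  haveI : Nonempty (Spec (CommRingCat.of R)) :=
    ⟨Spec.map (CommRingCat.ofHom e.toRingHom) (genericPoint (Spec (CommRingCat.of S)))⟩
  refine h X (f ≫ Spec.map (CommRingCat.ofHom e.toRingHom)) inferInstance hi hn ?_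
  haveI : IsDomain R := e.injective.isDomain e.toRingHom
  exact Groth.L05.MinDesing.isBir_comp f _ hb
    ⟨⊤, Set.univ_nonempty, inferInstance⟩

/-- Over a normal point, a finite modification is an isomorphism. -/
theorem exists_point_finite {P Z : Scheme.{u}} [IsIntegral P] [IsIntegral Z] [IsLocallyNoetherian P] (π : Z ⟶ P)
    [IsFinite π] (hn : Pi1.IsNormalScheme Z) (hbir : IsBir π) (p : P) [IsDomain (P.presheaf.stalk p)]
    [IsIntegrallyClosed (P.presheaf.stalk p)] :
    ∃ z : Z, π z = p ∧ Nonempty (P.presheaf.stalk p ≃+* Z.presheaf.stalk z) := by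
  obtain ⟨hWi, hWp, -, hWb, -⟩ := localModification π hn hbir p
  let g := pullback.fst π (P.fromSpecStalk p)
  let f : (pullback π (P.fromSpecStalk p) : Scheme.{u}) ⟶ Spec (CommRingCat.of (P.presheaf.stalk p)) :=
    pullback.snd π (P.fromSpecStalk p)
  haveI := hWi
  haveI : IsProper f := hWp
  haveI : IsFinite f := inferInstanceAs (IsFinite (pullback.snd π (P.fromSpecStalk p)))
  haveI : IsAffine (pullback π (P.fromSpecStalk p) : Scheme.{u}) := isAffine_of_isAffineHom f
  have htG := Groth.L05.RatPow.bijective_toGlobal f hWb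
  haveI : IsIso f.appTop := by
    refine (ConcreteCategory.isIso_iff_bijective f.appTop).2 ?_
    have hb := ConcreteCategory.bijective_of_isIso (Scheme.ΓSpecIso (CommRingCat.of (P.presheaf.stalk p))).inv
    exact (Function.Bijective.of_comp_iff _ hb).1 htG
  haveI : IsIso f := HasAffineProperty.iff_of_isAffine (P := MorphismProperty.isomorphisms Scheme) |>.2
    ⟨inferInstance, inferInstance⟩
  haveI : IsPreimmersion g := MorphismProperty.pullback_fst _ _ inferInstance
  haveI : Flat g := MorphismProperty.pullback_fst _ _ (Groth.L05.Point.flat_fromSpecStalk p)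
  set w := inv f (IsLocalRing.closedPoint (P.presheaf.stalk p))
  have hfw : f w = IsLocalRing.closedPoint (P.presheaf.stalk p) := by
    rw [← Scheme.Hom.comp_apply, IsIso.inv_hom_id]; rfl
  refine ⟨g w, ?_, ?_⟩
  · rw [← Scheme.Hom.comp_apply, pullback.condition, Scheme.Hom.comp_apply]
    exact (congrArg _ hfw).trans Scheme.fromSpecStalk_closedPoint
  · haveI := Groth.L11.REqHom.isIso_stalkMap_of_flat_preimmersion g w
    exact ⟨(((AlgebraicGeometry.stalkClosedPointIso _).symm ≪≫
      ((Spec (CommRingCat.of (P.presheaf.stalk p))).presheaf.stalkCongr (Inseparable.of_eq hfw.symm)) ≪≫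
      asIso (f.stalkMap w)) ≪≫ (asIso (g.stalkMap w)).symm).commRingCatIsoToRingEquiv⟩

end Groth.L05.RatSpread
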