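import Groth.Agent.L18.GlobGen
import Groth.Agent.L21.RR.PointPow
import Groth.Agent.L21.RR.PointDrop
import Groth.Agent.L15.TFCurve.Limit
import Groth.Agent.L13.GGH1
import Groth.Agent.L20.AffBlow

/-! Modules generated by sections, and multiplication by functions. -/

set_option autoImplicit false
set_option linter.style.haveILetI false
set_option backward.isDefEq.respectTransparency false
set_option backward.isDefEq.respectTransparency.types false

universe u

open CategoryTheory CategoryTheory.Limits AlgebraicGeometry TopologicalSpace Opposite

noncomputable section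

namespace Groth.L05.RatPow

open Groth.L21.RR (st one oneSec st_comp st_sum st_germ bijective_smul_one)

variable {X : Scheme.{u}}

/-- A module whose stalks are spanned by global sections is globally generated. -/
theorem isGloballyGenerated_of_span {F : X.Modules} {ι : Type*} (s : ι → Γ(F, ⊤))
    (h : ∀ x : X, Submodule.span (X.presheaf.stalk x)
      (Set.range fun i => F.presheaf.germ ⊤ x trivial (s i)) = ⊤) :
    Curv2.IsGloballyGenerated F := by
  refine Groth.L18.Ample.isGloballyGenerated_of_kills F fun G g hg => ?_
  rw [Groth.L21.Mod.eq_zero_iff_stalk]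
  intro x
  ext v
  show st g x v = 0
  have hv : v ∈ Submodule.span (X.presheaf.stalk x) (Set.range fun i => F.presheaf.germ ⊤ x trivial (s i)) := by
    rw [h x]; trivial
  induction hv using Submodule.span_induction with
  | mem w hw =>
    obtain ⟨i, rfl⟩ := hw
    rw [st_germ, hg, map_zero]
  | zero => exact map_zero _
  | add a b _ _ ha hb => rw [map_add, ha, hb, add_zero]
  | smul r a _ ha => rw [map_smul, ha, smul_zero]

/-- Multiplication by a global function on the structure sheaf. -/
def mulBy (a : Γ(X, ⊤)) : Coh.structureModule X ⟶ Coh.structureModule X :=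
  Groth.L16.homOfSection (Coh.structureModule X) a

theorem st_mulBy_one (a : Γ(X, ⊤)) (x : X) :
    st (mulBy a) x (one X x) = X.presheaf.germ ⊤ x trivial a • one X x := by
  rw [one, st_germ, mulBy, Groth.L21.RR.app_homOfSection_one]
  exact Groth.L21.RR.germ_eq_smul_one (X := X) (V := ⊤) (z := x) trivial a

theorem st_mulBy_smul (a : Γ(X, ⊤)) (x : X) (c : X.presheaf.stalk x) :
    st (mulBy a) x (c • one X x) = (c * X.presheaf.germ ⊤ x trivial a) • one X x := by
  rw [map_smul, st_mulBy_one, smul_smul]

theorem exists_coeff (x : X) (v : (Coh.structureModule X).presheaf.stalk x) :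
    ∃ c : X.presheaf.stalk x, c • one X x = v := (bijective_smul_one x).2 v

theorem smul_one_inj {x : X} {c d : X.presheaf.stalk x} (h : c • one X x = d • one X x) : c = d :=
  (bijective_smul_one x).1 h

/-- An element of the stalk of a finite sum is the sum of its components. -/
theorem sum_components {S : Type u} [Fintype S] {M : S → X.Modules} (x : X)
    (v : (⨁ M : X.Modules).presheaf.stalk x) :
    ∑ i, st (biproduct.ι M i) x (st (biproduct.π M i) x v) = v := by
  classical
  have ht : 𝟙 (⨁ M) = ∑ j, biproduct.π M j ≫ biproduct.ι M j := by
    refine biproduct.hom_ext' _ _ fun j => ?_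
    rw [Category.comp_id, Preadditive.comp_sum, Finset.sum_eq_single j]
    · rw [biproduct.ι_π_self_assoc]
    · intro k _ hk
      rw [biproduct.ι_π_ne_assoc _ hk.symm, zero_comp]
    · simp
  conv_rhs => rw [← Groth.L15.TFCurve.st_id (⨁ M) x v]
  change _ = st (𝟙 (⨁ M)) x v
  rw [ht, st_sum]
  exact Finset.sum_congr rfl fun i _ => (st_comp _ _ x v).symm

end Groth.L05.RatPow
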