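import Groth.Agent.L05.RatPow.Main
import Groth.Agent.L05.PtSeq.NormNagata
import Groth.Agent.L13.BlowTwo.Regular
import Groth.Agent.S2351
import Groth.Agent.S7298

/-!
The blow-up of a rational surface singularity in its closed point is normal.
-/

set_option autoImplicit false
set_option linter.style.haveILetI false
set_option backward.isDefEq.respectTransparency false
set_option backward.isDefEq.respectTransparency.types false

universe u

open CategoryTheory CategoryTheory.Limits AlgebraicGeometry TopologicalSpace Opposite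
open Groth.L22 Groth.L13.BU

noncomputable section

namespace Groth.L05.RatPow

variable {A : Type u} [CommRing A] [IsDomain A]

/-- An element integral over a power of an ideal in the sense of reductions. -/
def IntegralOverPow (I : Ideal A) (M : ℕ) (y : A) : Prop :=
  ∃ (k : ℕ) (d : ℕ → A), (∀ i < k, d i ∈ I ^ (M * (k - i))) ∧ y ^ k + ∑ i ∈ Finset.range k, d i * y ^ i = 0

section Chart

variable (I : Ideal A) (a : A) (ha : a ∈ I ^ 1)

theorem chart_eq_zero_iff (hna : a ≠ 0) {n : ℕ} {c : A} (hc : c ∈ I ^ n) : frac I a ha n c hc = 0 ↔ c = 0 :=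
  ⟨fun h => by
    obtain ⟨k, hk⟩ := of_frac_eq_zero I a ha hc h
    exact (mul_eq_zero.1 hk).resolve_left (pow_ne_zero _ hna),
  fun h => frac_eq_zero I a ha hc (k := 0) (by rw [h, mul_zero])⟩

/-- A chart of the blow-up of a domain sits in the fraction field. -/
theorem chart_toFrac (hna : a ≠ 0) : ∃ ψ : Chart I a ha →+* FractionRing A, Function.Injective ψ ∧
    (∀ r, ψ (chartHom I a ha r) = algebraMap A (FractionRing A) r) ∧
    ∀ n c hc, algebraMap A (FractionRing A) a ^ n * ψ (frac I a ha n c hc) = algebraMap A (FractionRing A) c := by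
  have hinj : Function.Injective (algebraMap A (FractionRing A)) := IsFractionRing.injective A _
  have hne : algebraMap A (FractionRing A) a ≠ 0 := fun h => hna (hinj (h.trans (map_zero _).symm))
  obtain ⟨ψ, hψ⟩ := exists_chart_lift I a ha (algebraMap A (FractionRing A)) (mem_nonZeroDivisors_of_ne_zero hne)
    fun x _ => (Ne.isUnit hne).dvd
  have h2 : ∀ r, ψ (chartHom I a ha r) = algebraMap A (FractionRing A) r := fun r =>
    congrArg (fun g : A →+* FractionRing A => g r) hψ
  have h3 : ∀ n c hc, algebraMap A (FractionRing A) a ^ n * ψ (frac I a ha n c hc) =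
      algebraMap A (FractionRing A) c := fun n c hc => by
    rw [← h2 a, ← map_pow ψ, ← map_mul ψ]
    exact (congrArg ψ (pow_mul_frac I a ha n c hc)).trans (h2 c)
  refine ⟨ψ, (RingHom.injective_iff_ker_eq_bot ψ).2 (eq_bot_iff.2 fun z hz => ?_), h2, h3⟩
  rw [RingHom.mem_ker] at hz
  rw [Ideal.mem_bot]
  obtain ⟨n, c, hc, rfl⟩ := frac_surjective I a ha z
  have h := h3 n c hc
  rw [hz, mul_zero] at h
  exact (chart_eq_zero_iff I a ha hna hc).2 (hinj (h.symm.trans (map_zero _).symm))

theorem chart_isDomain (hna : a ≠ 0) : IsDomain (Chart I a ha) := by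
  obtain ⟨ψ, hψ, -, -⟩ := chart_toFrac I a ha hna
  exact hψ.isDomain ψ

/-- The charts are normal if all powers of the ideal are integrally closed. -/
theorem chart_isIntegrallyClosed [IsIntegrallyClosed A] (hna : a ≠ 0)
    (hP : ∀ M y, IntegralOverPow I M y → y ∈ I ^ M) : IsIntegrallyClosed (Chart I a ha) := by
  classical
  obtain ⟨ψ, hψ, hψA, hψf⟩ := chart_toFrac I a ha hna
  haveI := chart_isDomain I a ha hna
  letI : Algebra (Chart I a ha) (FractionRing A) := ψ.toAlgebra
  haveI : IsFractionRing (Chart I a ha) (FractionRing A) := by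
    haveI : FaithfulSMul (Chart I a ha) (FractionRing A) := (faithfulSMul_iff_algebraMap_injective _ _).2 hψ
    refine IsFractionRing.of_field _ _ fun z => ?_
    obtain ⟨p, q, -, rfl⟩ := IsFractionRing.div_surjective (A := A) z
    refine ⟨chartHom I a ha p, chartHom I a ha q, ?_⟩
    rw [RingHom.algebraMap_toAlgebra, hψA, hψA]
  refine (isIntegrallyClosed_iff (R := Chart I a ha) (FractionRing A)).2 fun {x} hx => ?_
  obtain ⟨p, hp, hpx⟩ := hx
  set k := p.natDegree
  choose n c hc hfr using fun i => frac_surjective I a ha (p.coeff i)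
  set L := ∑ i ∈ Finset.range k, n i
  have hle : ∀ i ∈ Finset.range k, n i ≤ L := fun i hi => Finset.single_le_sum (fun j _ => Nat.zero_le _) hi
  set T := algebraMap A (FractionRing A) a
  set e : ℕ → A := fun i => c i * a ^ (L - n i)
  have he : ∀ i ∈ Finset.range k, e i ∈ I ^ L := fun i hi => by
    rw [show L = n i + (L - n i) from (Nat.add_sub_cancel' (hle i hi)).symm, pow_add]
    refine Ideal.mul_mem_mul (hc i) ?_
    exact Ideal.pow_mem_pow (by simpa using ha) _
  have hco : ∀ i ∈ Finset.range k, T ^ L * ψ (p.coeff i) = algebraMap A (FractionRing A) (e i) := fun i hi => by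
    show _ = algebraMap A (FractionRing A) (c i * a ^ (L - n i))
    rw [← hfr i, map_mul, map_pow, ← hψf (n i) (c i) (hc i)]
    conv_lhs => rw [show L = n i + (L - n i) from (Nat.add_sub_cancel' (hle i hi)).symm, pow_add]
    ring
  -- the scaled element is integral over the base
  set d : ℕ → A := fun i => e i * a ^ (L * (k - i - 1))
  have hdK : ∀ i ∈ Finset.range k, algebraMap A (FractionRing A) (d i) * (T ^ L * x) ^ i =
      (T ^ L) ^ k * (ψ (p.coeff i) * x ^ i) := fun i hi => by
    have hik := Finset.mem_range.1 hi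
    show algebraMap A (FractionRing A) (e i * a ^ (L * (k - i - 1))) * _ = _
    rw [map_mul, map_pow, ← hco i hi, mul_pow]
    conv_rhs => rw [show k = (k - i - 1) + 1 + i by omega, pow_add, pow_add, pow_one, ← pow_mul]
    ring
  have heq : (T ^ L * x) ^ k + ∑ i ∈ Finset.range k, algebraMap A (FractionRing A) (d i) * (T ^ L * x) ^ i = 0 := by
    rw [Finset.sum_congr rfl hdK, ← Finset.mul_sum, mul_pow, ← mul_add]
    have h := hpx
    rw [Polynomial.eval₂_eq_sum_range, Finset.sum_range_succ, hp.coeff_natDegree, map_one, one_mul, add_comm] at h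
    rw [show x ^ k + ∑ i ∈ Finset.range k, ψ (p.coeff i) * x ^ i = 0 from h, mul_zero]
  have hint : IsIntegral A (T ^ L * x) := by
    refine ⟨Polynomial.X ^ k + ∑ i ∈ Finset.range k, Polynomial.C (d i) * Polynomial.X ^ i, ?_, ?_⟩
    · refine Polynomial.monic_X_pow_add ((Polynomial.degree_sum_le _ _).trans_lt ?_)
      refine (Finset.sup_lt_iff (WithBot.bot_lt_coe k)).2 fun i hi => ?_
      exact (Polynomial.degree_C_mul_X_pow_le _ _).trans_lt (WithBot.coe_lt_coe.2 (Finset.mem_range.1 hi))
    · simpa [Polynomial.eval₂_finsetSum, Polynomial.eval₂_mul, Polynomial.eval₂_pow] using heq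
  obtain ⟨y, hy⟩ := IsIntegrallyClosed.isIntegral_iff.1 hint
  have hyM : y ∈ I ^ L := hP L y ⟨k, d, fun i hi => by
    show e i * a ^ _ ∈ _
    rw [show L * (k - i) = L + L * (k - i - 1) by
      rw [show k - i = k - i - 1 + 1 by omega, Nat.mul_succ, Nat.add_comm, Nat.add_sub_cancel], pow_add]
    exact Ideal.mul_mem_mul (he i (Finset.mem_range.2 hi)) (Ideal.pow_mem_pow (by simpa using ha) _),
    IsFractionRing.injective A (FractionRing A) (by
      rw [map_zero, map_add, map_pow, map_sum, hy]
      simpa [map_mul, map_pow, hy] using heq)⟩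
  refine ⟨frac I a ha L y hyM, ?_⟩
  have hT : T ^ L ≠ 0 := pow_ne_zero _ fun h => hna (IsFractionRing.injective A (FractionRing A) (h.trans (map_zero _).symm))
  exact mul_left_cancel₀ hT ((hψf L y hyM).trans hy)

end Chart

omit [IsDomain A] in
/-- A chosen isomorphism of a blow-up with `Proj` of the Rees algebra covers it by charts. -/
theorem exists_chart_stalk {I : Ideal A} {X : Scheme.{u}} (b : X ⟶ Spec (CommRingCat.of A))
    (hb : BlowUp.IsBlowUp b (idealOf I)) (x : X) :
    ∃ (a : A) (ha : a ∈ I ^ 1) (_ : a ≠ 0) (q : PrimeSpectrum (Chart I a ha)),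
      Nonempty (Localization.AtPrime q.asIdeal ≃+* X.presheaf.stalk x) := by
  obtain ⟨k, hk, -⟩ := hb.2 _ (reesToSpec I) (isBlowUp_rees I).1
  haveI := isIso_of_blowUps hb (isBlowUp_rees I) k hk
  obtain ⟨p, hp⟩ : ∃ p, k p = x := ⟨inv k x, by rw [← Scheme.Hom.comp_apply, IsIso.inv_hom_id]; rfl⟩
  obtain ⟨⟨a, ha⟩, hpa⟩ := Opens.mem_iSup.1 ((iSup_chart (I := I)).ge (Set.mem_univ p))
  have hna : a ≠ 0 := by
    rintro rfl
    rw [Proj.mem_basicOpen] at hpa
    apply hpa
    rw [show mon I 1 (0 : A) ha = 0 from Subtype.ext (map_zero (Polynomial.monomial 1))]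
    exact zero_mem _
  obtain ⟨w, hw⟩ : p ∈ (chartι I a ha).opensRange := by rw [Proj.opensRange_awayι]; exact hpa
  let j := chartι I a ha ≫ k
  have hjw : j w = x := by rw [Scheme.Hom.comp_apply]; exact (congrArg k hw).trans hp
  refine ⟨a, ha, hna, w, ?_⟩
  subst hjw
  exact ⟨(Spec.stalkIso _ w).commRingCatIsoToRingEquiv.symm.trans (asIso (j.stalkMap w)).commRingCatIsoToRingEquiv.symm⟩

theorem isReduced_blowUp {I : Ideal A} {X : Scheme.{u}} (b : X ⟶ Spec (CommRingCat.of A))
    (hb : BlowUp.IsBlowUp b (idealOf I)) : IsReduced X := by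
  haveI : ∀ x : X, _root_.IsReduced (X.presheaf.stalk x) := fun x => by
    obtain ⟨a, ha, hna, q, ⟨e⟩⟩ := exists_chart_stalk b hb x
    haveI := chart_isDomain I a ha hna
    haveI : IsDomain (Localization.AtPrime q.asIdeal) :=
      IsLocalization.isDomain_localization q.asIdeal.primeCompl_le_nonZeroDivisors
    exact isReduced_of_injective e.symm.toRingHom e.symm.injective
  exact isReduced_of_isReduced_stalk X

/-- The blow-up is normal if all powers of the centre are integrally closed. -/
theorem isNormal_blowUp [IsIntegrallyClosed A] {I : Ideal A} (hP : ∀ M y, IntegralOverPow I M y → y ∈ I ^ M)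
    {X : Scheme.{u}} (b : X ⟶ Spec (CommRingCat.of A)) (hb : BlowUp.IsBlowUp b (idealOf I)) :
    Pi1.IsNormalScheme X := fun x => by
  obtain ⟨a, ha, hna, q, ⟨e⟩⟩ := exists_chart_stalk b hb x
  haveI := chart_isDomain I a ha hna
  haveI := chart_isIntegrallyClosed I a ha hna hP
  haveI : IsDomain (Localization.AtPrime q.asIdeal) :=
    IsLocalization.isDomain_localization q.asIdeal.primeCompl_le_nonZeroDivisors
  haveI : IsIntegrallyClosed (Localization.AtPrime q.asIdeal) :=
    isIntegrallyClosed_of_isLocalization _ q.asIdeal.primeCompl q.asIdeal.primeCompl_le_nonZeroDivisors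
  exact ⟨e.symm.injective.isDomain e.symm.toRingHom, IsIntegrallyClosed.of_equiv e⟩

section Modification

variable [IsLocalRing A] [IsNoetherianRing A] [IsIntegrallyClosed A]

local notation "𝔪" => IsLocalRing.maximalIdeal A

omit [IsDomain A] [IsLocalRing A] [IsNoetherianRing A] [IsIntegrallyClosed A] in
theorem isNagata_opens_spec (hN : CAlg.IsNagata A) (U : (Spec (CommRingCat.of A)).affineOpens) :
    CAlg.IsNagata Γ(Spec (CommRingCat.of A), U.1) := by
  refine Groth.L18.AffLocal.isNagata_affine (fun _ : Unit => (⊤ : (Spec (CommRingCat.of A)).Opens))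
    iSup_const (fun _ => isAffineOpen_top _) (fun _ => ?_) U.1 U.2
  letI : Algebra A Γ(Spec (CommRingCat.of A), ⊤) := (Scheme.ΓSpecIso (CommRingCat.of A)).inv.hom.toAlgebra
  haveI : Algebra.FiniteType A Γ(Spec (CommRingCat.of A), ⊤) :=
    Algebra.FiniteType.of_surjective (Algebra.ofId _ _)
      (ConcreteCategory.bijective_of_isIso (C := CommRingCat) (Scheme.ΓSpecIso (CommRingCat.of A)).inv).2
  exact Groth.L01.Nagata.isNagata_of_finiteType hN

omit [IsIntegrallyClosed A] in
/-- The blow-up of the closed point, normalised. -/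
theorem exists_modification (hN : CAlg.IsNagata A) (hm : 𝔪 ≠ ⊥) :
    ∃ (X : Scheme.{u}) (f : X ⟶ Spec (CommRingCat.of A)) (_ : IsIntegral X), IsProper f ∧ Pi1.IsNormalScheme X ∧
      (∃ U : (Spec (CommRingCat.of A)).Opens, (U : Set (Spec (CommRingCat.of A))).Nonempty ∧ IsIso (f ∣_ U)) ∧
      BlowUp.IsEffCartierIdeal (J f) := by
  obtain ⟨P, q, hq⟩ : ∃ (P : Scheme.{u}) (q : P ⟶ Spec (CommRingCat.of A)), BlowUp.IsBlowUp q (idealOf 𝔪) :=
    ⟨_, _, isBlowUp_rees _⟩
  have hne : ((idealOf 𝔪).support.compl : Set (Spec (CommRingCat.of A))).Nonempty := by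
    refine ⟨⟨⊥, Ideal.isPrime_bot⟩, fun hmem => hm (eq_bot_iff.2 fun r hr => ?_)⟩
    rw [SetLike.mem_coe, Scheme.IdealSheafData.mem_support_iff_of_mem (U := ⟨⊤, isAffineOpen_top _⟩) (Set.mem_univ _),
      idealOf_top] at hmem
    have h1 := (Scheme.mem_zeroLocus_iff _ _ _).1 hmem _ (Ideal.mem_map_of_mem _ hr)
    rw [basicOpen_eq_of_affine] at h1
    exact not_not.1 h1
  haveI := Groth.Agent.L13.BlowTwo.irreducible_blowUp q hq hne
  haveI := isReduced_blowUp q hq
  haveI : IsIntegral P := isIntegral_of_irreducibleSpace_of_isReduced P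
  haveI : IsProper q := isProper_blowUp hq fun U => by
    haveI : IsNoetherianRing Γ(Spec (CommRingCat.of A), U.1) := IsLocallyNoetherian.component_noetherian U
    exact IsNoetherian.noetherian _
  have hNP := Groth.L05.PtSeq.isNagata_affineOpens_of_lft q (isNagata_opens_spec hN)
  haveI := Groth.L22.Norm.isFinite_normalizationι P hNP
  obtain ⟨hi, hn, -, ⟨hgen, -⟩⟩ := Groth.Agent.S2351.result P
  haveI := hi
  let ν := Curv2.normalizationι P
  have hνb : Groth.L05.MinDesing.IsBir ν := Groth.L22.BM.exists_isIso_normalizationι P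
  have hqb : Groth.L05.MinDesing.IsBir q := ⟨_, hne, Groth.L22.Ideals.isIso_restrict_compl hq⟩
  refine ⟨Curv2.normalization P, ν ≫ q, hi, inferInstance, hn, Groth.L05.MinDesing.isBir_comp ν q hνb hqb, ?_⟩
  show BlowUp.IsEffCartierIdeal ((idealOf 𝔪).comap (ν ≫ q))
  rw [Scheme.IdealSheafData.comap_comp]
  have hD := hq.1
  intro y
  obtain ⟨U, hyU, g, hg, hgI⟩ := hD (ν y)
  obtain ⟨V, hV, hyV, hle⟩ := exists_isAffineOpen_mem_and_subset (x := y) (U := ν ⁻¹ᵁ U.1) hyU
  let V' : (Curv2.normalization P).affineOpens := ⟨V, hV⟩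
  haveI : Nonempty (V'.1 : (Curv2.normalization P).Opens) := ⟨⟨y, hyV⟩⟩
  haveI : IsDomain Γ(Curv2.normalization P, V'.1) := inferInstance
  refine ⟨V', hyV, (ν.appLE U.1 V fun z hz => hle hz).hom g, mem_nonZeroDivisors_of_ne_zero fun h0 => ?_, ?_⟩
  · haveI : Nonempty U.1 := ⟨⟨_, hyU⟩⟩
    refine nonZeroDivisors.ne_zero hg (germ_injective_of_isIntegral P (genericPoint P)
      ((genericPoint_specializes _).mem_open U.1.2 hyU) (?_ : _ = (P.presheaf.germ U.1 _ _) 0))
    rw [map_zero]
    have hηV : genericPoint (Curv2.normalization P) ∈ V := (genericPoint_specializes y).mem_open V.2 hyV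
    by_contra hu
    have hu' : IsUnit (P.presheaf.germ U.1 (genericPoint P) ((genericPoint_specializes _).mem_open U.1.2 hyU) g) :=
      Ne.isUnit (G₀ := P.functionField) hu
    have h1 : genericPoint P ∈ P.basicOpen g := (P.mem_basicOpen g _ _).2 hu'
    have h2 : genericPoint (Curv2.normalization P) ∈ ν ⁻¹ᵁ P.basicOpen g := by
      show ν (genericPoint _) ∈ P.basicOpen g
      rw [show ν (genericPoint (Curv2.normalization P)) = genericPoint P from hgen]; exact h1
    rw [Scheme.preimage_basicOpen] at h2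
    have h3 : genericPoint (Curv2.normalization P) ∈
        V ⊓ (Curv2.normalization P).basicOpen (ν.app U.1 g) := ⟨hηV, h2⟩
    rw [← Scheme.basicOpen_res _ _ (homOfLE (show V ≤ ν ⁻¹ᵁ U.1 from fun z hz => hle hz)).op] at h3
    rw [Scheme.Hom.appLE] at h0
    rw [show (Curv2.normalization P).presheaf.map (homOfLE (show V ≤ ν ⁻¹ᵁ U.1 from fun z hz => hle hz)).op (ν.app U.1 g)
      = 0 from h0, Scheme.basicOpen_zero] at h3
    exact h3
  · rw [Groth.L22.Ideals.comap_ideal ν _ U V' (fun z hz => hle hz), hgI, Ideal.map_span, Set.image_singleton]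

/-- Powers of the maximal ideal of a rational singularity are integrally closed. -/
theorem mem_pow_of_integralOverPow (hN : CAlg.IsNagata A) (hdim : ringKrullDim A = 2) (hA : Curv2.IsRationalSing A)
    (M : ℕ) (y : A) (hy : IntegralOverPow 𝔪 M y) : y ∈ 𝔪 ^ M := by
  classical
  have hm : 𝔪 ≠ ⊥ := fun h => by
    have := (IsLocalRing.isField_iff_maximalIdeal_eq.2 h)
    rw [ringKrullDim_eq_zero_of_isField this] at hdim
    exact absurd hdim (by decide)
  obtain ⟨X, f, hi, hpr, hn, hbir, hE⟩ := exists_modification hN hm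
  refine mem_pow_of_forall f (Groth.Agent.S7298.result A hN hdim hA X f hn hbir) hbir hE M y fun x => ?_
  obtain ⟨S₀, hS₀⟩ := (isNoetherianRing_iff_ideal_fg A).1 inferInstance 𝔪
  obtain ⟨i₀, hg, hgen⟩ := exists_principal f hE (Subtype.val : ↥S₀ → A)
    (by rw [Subtype.range_coe]; exact hS₀) x
  set g := χ f x (i₀ : A)
  obtain ⟨k, d, hd, hy⟩ := hy
  haveI := (hn x).1
  haveI := (hn x).2
  have hpow : ∀ j, (𝔪 ^ j).map (χ f x) = Ideal.span {g ^ j} := fun j => by
    rw [Ideal.map_pow, hgen, Ideal.span_singleton_pow]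
  have hδ : ∀ i, ∃ δ, i < k → χ f x (d i) = δ * g ^ (M * (k - i)) := fun i => by
    by_cases hi : i < k
    · have h := Ideal.mem_map_of_mem (χ f x) (hd i hi)
      rw [hpow] at h
      obtain ⟨δ, hδ⟩ := Ideal.mem_span_singleton'.1 h
      exact ⟨δ, fun _ => hδ.symm⟩
    · exact ⟨0, fun h => absurd h hi⟩
  choose δ hδ using hδ
  let K := FractionRing (X.presheaf.stalk x)
  have hinj : Function.Injective (algebraMap (X.presheaf.stalk x) K) := IsFractionRing.injective _ _
  set G := algebraMap (X.presheaf.stalk x) K g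
  have hG : G ^ M ≠ 0 := pow_ne_zero _ fun h => hg (hinj (h.trans (map_zero _).symm))
  set Y := algebraMap (X.presheaf.stalk x) K (χ f x y)
  have hw : IsIntegral (X.presheaf.stalk x) (Y / G ^ M) := by
    refine ⟨Polynomial.X ^ k + ∑ i ∈ Finset.range k, Polynomial.C (δ i) * Polynomial.X ^ i, ?_, ?_⟩
    · refine Polynomial.monic_X_pow_add ((Polynomial.degree_sum_le _ _).trans_lt ?_)
      refine (Finset.sup_lt_iff (WithBot.bot_lt_coe k)).2 fun i hi => ?_
      exact (Polynomial.degree_C_mul_X_pow_le _ _).trans_lt (WithBot.coe_lt_coe.2 (Finset.mem_range.1 hi))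
    · simp only [Polynomial.eval₂_add, Polynomial.eval₂_pow, Polynomial.eval₂_X, Polynomial.eval₂_finsetSum,
        Polynomial.eval₂_mul, Polynomial.eval₂_C]
      refine mul_left_cancel₀ (pow_ne_zero k hG) ?_
      rw [mul_zero, mul_add, ← mul_pow, mul_div_cancel₀ _ hG, Finset.mul_sum]
      have h := congrArg (fun z => algebraMap (X.presheaf.stalk x) K (χ f x z)) hy
      simp only [map_zero, map_add, map_pow, map_sum, map_mul] at h
      refine Eq.trans ?_ h
      refine congrArg (Y ^ k + ·) (Finset.sum_congr rfl fun i hi => ?_)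
      have hik := Finset.mem_range.1 hi
      rw [hδ i hik, map_mul, map_pow, Nat.mul_comm, pow_mul', div_pow]
      conv_lhs => rw [show k = (k - i) + i by omega, pow_add]
      change (G ^ M) ^ (k - i) * (G ^ M) ^ i * (algebraMap (X.presheaf.stalk x) K (δ i) * (Y ^ i / (G ^ M) ^ i)) =
        algebraMap (X.presheaf.stalk x) K (δ i) * (G ^ M) ^ (k - i) * Y ^ i
      have hGi : (G ^ M) ^ i * (Y ^ i / (G ^ M) ^ i) = Y ^ i := mul_div_cancel₀ _ (pow_ne_zero i hG)
      conv_rhs => rw [← hGi]
      ring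
  obtain ⟨w, hw'⟩ := IsIntegrallyClosed.isIntegral_iff.1 hw
  have hY : χ f x y = w * g ^ M := hinj (by rw [map_mul, map_pow, hw']; exact (div_mul_cancel₀ _ hG).symm)
  rw [hpow, hY]
  exact Ideal.mul_mem_left _ _ (Ideal.mem_span_singleton_self _)

/-- The blow-up of a rational surface singularity in its closed point is normal. -/
theorem isNormal_of_rational (hN : CAlg.IsNagata A) (hdim : ringKrullDim A = 2) (hA : Curv2.IsRationalSing A)
    {X : Scheme.{u}} (b : X ⟶ Spec (CommRingCat.of A)) (hb : BlowUp.IsBlowUp b (idealOf 𝔪)) :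
    Pi1.IsNormalScheme X :=
  isNormal_blowUp (mem_pow_of_integralOverPow hN hdim hA) b hb

end Modification

end Groth.L05.RatPow
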