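import Groth.Agent.L05.RatPow.Normal
import Groth.Agent.L06.NormalAscent
import Groth.Agent.L01.CompletionExt
import Groth.Agent.L01.AnalUnram
import Groth.Agent.L28.CplUnram.Basic
import Groth.Agent.S2652

/-! Completions of the local rings of the blow-up of a rational surface singularity. -/

set_option autoImplicit false
set_option maxSynthPendingDepth 5
set_option maxHeartbeats 1000000
set_option linter.style.haveILetI false
set_option backward.isDefEq.respectTransparency false
set_option backward.isDefEq.respectTransparency.types false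

universe u

open CategoryTheory CategoryTheory.Limits AlgebraicGeometry TopologicalSpace Opposite
open Groth.L22 Groth.L13.BU

noncomputable section

namespace Groth.L05.RatPow

open IsLocalRing (maximalIdeal)

variable {A : Type u} [CommRing A]

/-- Members of a finite sum of scaled ideals. -/
theorem exists_coeff_of_mem (z : A) (J : ℕ → Ideal A) : ∀ (k : ℕ) {x : A},
    x ∈ (∑ i ∈ Finset.range k, Ideal.span {z ^ i} * J i) →
      ∃ d : ℕ → A, (∀ i < k, d i ∈ J i) ∧ x = ∑ i ∈ Finset.range k, d i * z ^ i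
  | 0, x, hx => by
    rw [Finset.range_zero, Finset.sum_empty] at hx
    exact ⟨fun _ => 0, fun i hi => absurd hi (Nat.not_lt_zero i), by
      rw [Finset.range_zero, Finset.sum_empty]; exact Submodule.mem_bot _ |>.1 hx⟩
  | k + 1, x, hx => by
    rw [Finset.sum_range_succ, Submodule.add_eq_sup, Submodule.mem_sup] at hx
    obtain ⟨p, hp, q, hq, rfl⟩ := hx
    obtain ⟨d, hd, rfl⟩ := exists_coeff_of_mem z J k hp
    obtain ⟨r, hr, rfl⟩ := Ideal.mem_span_singleton_mul.1 hq
    refine ⟨Function.update d k r, fun i hi => ?_, ?_⟩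
    · rcases eq_or_ne i k with rfl | hne
      · rw [Function.update_self]; exact hr
      · rw [Function.update_of_ne hne]; exact hd i (lt_of_le_of_ne (Nat.lt_succ_iff.1 hi) hne)
    · rw [Finset.sum_range_succ, Function.update_self, mul_comm r]
      congr 1
      exact Finset.sum_congr rfl fun i hi => by rw [Function.update_of_ne (Finset.mem_range.1 hi).ne]

theorem mem_sum_of_mem {z x : A} {J : ℕ → Ideal A} {k i : ℕ} (hi : i < k) (hx : x ∈ J i) :
    z ^ i * x ∈ ∑ j ∈ Finset.range k, Ideal.span {z ^ j} * J j :=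
  (Finset.single_le_sum (f := fun j => Ideal.span {z ^ j} * J j) (fun _ _ => bot_le) (Finset.mem_range.2 hi) :
    Ideal.span {z ^ i} * J i ≤ _) (Ideal.mul_mem_mul (Ideal.mem_span_singleton_self _) hx)

/-- Integrality over an ideal only depends on the element modulo the ideal. -/
theorem pow_mem_sum_shift {K : Ideal A} {y y₀ : A} (he : y - y₀ ∈ K) {k : ℕ}
    (hy : y ^ k ∈ ∑ i ∈ Finset.range k, Ideal.span {y ^ i} * K ^ (k - i)) :
    y₀ ^ k ∈ ∑ i ∈ Finset.range k, Ideal.span {y₀ ^ i} * K ^ (k - i) := by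
  have h1 : (∑ i ∈ Finset.range k, Ideal.span {y ^ i} * K ^ (k - i)) ≤
      ∑ i ∈ Finset.range k, Ideal.span {y₀ ^ i} * K ^ (k - i) := by
    refine fun x hx => ?_
    obtain ⟨d, hd, rfl⟩ := exists_coeff_of_mem y (fun i => K ^ (k - i)) k hx
    refine Ideal.sum_mem _ fun i hi => ?_
    have hik := Finset.mem_range.1 hi
    rw [show y = y₀ + (y - y₀) by ring, add_pow, Finset.mul_sum]
    refine Ideal.sum_mem _ fun j hj => ?_
    have hji : j ≤ i := Nat.lt_succ_iff.1 (Finset.mem_range.1 hj)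
    rw [show d i * (y₀ ^ j * (y - y₀) ^ (i - j) * (i.choose j : A)) =
      y₀ ^ j * (d i * (y - y₀) ^ (i - j) * (i.choose j : A)) by ring]
    refine mem_sum_of_mem (hji.trans_lt hik) (Ideal.mul_mem_right _ _ ?_)
    show _ ∈ K ^ (k - j)
    rw [show k - j = (k - i) + (i - j) by omega, pow_add]
    exact Ideal.mul_mem_mul (hd i hik) (Ideal.pow_mem_pow he _)
  refine h1 ?_
  rw [show y₀ = y + -(y - y₀) by ring, add_pow, Finset.sum_range_succ]
  refine add_mem (Ideal.sum_mem _ fun j hj => ?_) (by simpa using hy)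
  rw [mul_assoc]
  exact mem_sum_of_mem (Finset.mem_range.1 hj) (Ideal.mul_mem_right _ _ (Ideal.pow_mem_pow (neg_mem he) _))

variable [IsLocalRing A] [IsNoetherianRing A]

/-- A local map with the properties of the completion map that are used below. -/
structure IsCplMap {B : Type u} [CommRing B] [IsLocalRing B] (ι : A →+* B) : Prop where
  map_pow : ∀ n, (IsLocalRing.maximalIdeal A ^ n).map ι = IsLocalRing.maximalIdeal B ^ n
  mem_of : ∀ (J : Ideal A) {x : A}, ι x ∈ J.map ι → x ∈ J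
  approx : ∀ (n : ℕ) (y : B), ∃ r, y - ι r ∈ IsLocalRing.maximalIdeal B ^ n

local notation "𝔪" => IsLocalRing.maximalIdeal A

theorem isCplMap_algebraMap : IsCplMap (algebraMap A (EGA4.Cpl A)) where
  map_pow n := by rw [Ideal.map_pow, Groth.L01.AnalUnram.completion_map_maximalIdeal]
  mem_of J x hx := by
    haveI := Groth.L06.NormalAscent.faithfullyFlat_cpl A
    rw [← Ideal.comap_map_eq_self_of_faithfullyFlat (B := EGA4.Cpl A) J]
    exact hx
  approx n y := Groth.L01.CompletionExt.exists_sub_mem_pow n y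

variable {B : Type u} [CommRing B] [IsLocalRing B] {ι : A →+* B} (hι : IsCplMap ι)

include hι in
/-- Integrally closed powers of the maximal ideal stay so in the completion. -/
theorem mem_pow_cpl_of_integralOverPow (hP : ∀ M y, IntegralOverPow 𝔪 M y → y ∈ 𝔪 ^ M) (M : ℕ)
    (y : B) (hy : IntegralOverPow (IsLocalRing.maximalIdeal B) M y) :
    y ∈ IsLocalRing.maximalIdeal B ^ M := by
  obtain ⟨k, d, hd, hy⟩ := hy
  set K := IsLocalRing.maximalIdeal B ^ M with hK
  have hyk : y ^ k ∈ ∑ i ∈ Finset.range k, Ideal.span {y ^ i} * K ^ (k - i) := by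
    rw [eq_neg_of_add_eq_zero_left hy, ← Finset.sum_neg_distrib]
    refine Ideal.sum_mem _ fun i hi => ?_
    rw [neg_mem_iff, mul_comm (d i)]
    refine mem_sum_of_mem (Finset.mem_range.1 hi) ?_
    show d i ∈ K ^ (k - i)
    rw [hK, ← pow_mul]
    exact hd i (Finset.mem_range.1 hi)
  obtain ⟨r, hr⟩ := hι.approx M y
  have h2 := pow_mem_sum_shift (y₀ := ι r) hr hyk
  rw [show (∑ i ∈ Finset.range k, Ideal.span {ι r ^ i} * K ^ (k - i)) =
      (∑ i ∈ Finset.range k, Ideal.span {r ^ i} * 𝔪 ^ (M * (k - i))).map (ι) by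
    rw [← Ideal.mapHom_apply, map_sum]
    refine Finset.sum_congr rfl fun i _ => ?_
    rw [Ideal.mapHom_apply, Ideal.map_mul, Ideal.map_span, Set.image_singleton, map_pow, hι.map_pow,
      hK, ← pow_mul], ← map_pow] at h2
  obtain ⟨e, he, heq⟩ := exists_coeff_of_mem r _ k (hι.mem_of _ h2)
  have hrM : r ∈ 𝔪 ^ M := hP M r ⟨k, fun i => -e i, fun i hi => neg_mem (he i hi), by
    rw [heq, ← Finset.sum_add_distrib]
    exact Finset.sum_eq_zero fun i _ => by ring⟩
  have h3 : ι r ∈ K := hK ▸ hι.map_pow M ▸ Ideal.mem_map_of_mem _ hrM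
  simpa using add_mem hr h3

include hι in
theorem mem_cpl {n : ℕ} {c : A} (hc : c ∈ 𝔪 ^ n) : ι c ∈ IsLocalRing.maximalIdeal B ^ n :=
  (hι.map_pow n).le (Ideal.mem_map_of_mem _ hc)

/-- The chart of the blow-up of the completion. -/
abbrev cplChart {R S : Type u} [CommRing R] [IsLocalRing R] [IsNoetherianRing R] [CommRing S] [IsLocalRing S]
    {φ : R →+* S} (hφ : IsCplMap φ) (a : R) (ha : a ∈ IsLocalRing.maximalIdeal R ^ 1) : Type u :=
  Chart (IsLocalRing.maximalIdeal S) (φ a) (mem_cpl hφ ha)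

section Chart

variable [IsDomain A] [IsDomain B] (a : A) (ha : a ∈ IsLocalRing.maximalIdeal A ^ 1)

variable (hna : a ≠ 0)

include hι hna in
theorem ι_ne_zero : ι a ≠ 0 := fun h => hna (by
  have h1 : a ∈ (⊥ : Ideal A) := hι.mem_of ⊥ (by rw [Ideal.map_bot, h]; exact zero_mem _)
  exact h1)

include hι hna in
theorem exists_comparison :
    ∃ ν : Chart 𝔪 a ha →+* cplChart hι a ha, ∀ n c hc,
      ν (frac 𝔪 a ha n c hc) = frac _ _ _ n (ι c)
        (mem_cpl hι hc) := by
  have ha' : ι a ∈ IsLocalRing.maximalIdeal B ^ 1 :=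
    mem_cpl hι ha
  let g : A →+* cplChart hι a ha := (chartHom _ _ ha').comp (ι)
  haveI : IsDomain (cplChart hι a ha) := chart_isDomain _ _ ha' (ι_ne_zero hι a hna)
  have hga : g a ∈ nonZeroDivisors (cplChart hι a ha) := chartHom_nonZeroDivisor _ _ ha'
  obtain ⟨ν, hν⟩ := exists_chart_lift 𝔪 a ha g hga fun x hx => ⟨frac _ _ _ 1 (ι x)
    (mem_cpl hι (by rw [pow_one]; exact hx)),
    chartHom_eq _ _ ha' _ _⟩
  refine ⟨ν, fun n c hc => mul_left_cancel₀ (pow_ne_zero n (nonZeroDivisors.ne_zero hga)) ?_⟩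
  have h1 := congrArg ν (pow_mul_frac 𝔪 a ha n c hc)
  rw [map_mul, map_pow, show ν (chartHom 𝔪 a ha a) = g a from congrArg (fun f : A →+* _ => f a) hν,
    show ν (chartHom 𝔪 a ha c) = g c from congrArg (fun f : A →+* _ => f c) hν] at h1
  exact h1.trans (pow_mul_frac _ _ ha' n _ _).symm

variable {ν : Chart (IsLocalRing.maximalIdeal A) a ha →+* cplChart hι a ha}
  (hν : ∀ n c hc, ν (frac (IsLocalRing.maximalIdeal A) a ha n c hc) = frac _ _ _ n (ι c)
    (mem_cpl hι hc))

include hν in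
theorem comparison_chartHom (r : A) :
    ν (chartHom 𝔪 a ha r) = chartHom _ _ (mem_cpl hι ha)
      (ι r) := by
  rw [chartHom_apply, hν, chartHom_apply]

include hna hν in
/-- The charts agree modulo the powers of the exceptional equation. -/
theorem approx_surj (N : ℕ) (z : cplChart hι a ha) :
    ∃ w, z - ν w ∈ Ideal.span {ν (chartHom 𝔪 a ha a) ^ N} := by
  have ha' : ι a ∈ IsLocalRing.maximalIdeal B ^ 1 :=
    mem_cpl hι ha
  haveI : IsDomain (cplChart hι a ha) := chart_isDomain _ _ ha' (ι_ne_zero hι a hna)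
  obtain ⟨n, c, hc, rfl⟩ := frac_surjective _ _ ha' z
  obtain ⟨c₀, hc₀⟩ := hι.approx (n + N) c
  have hc₀n : c₀ ∈ 𝔪 ^ n := hι.mem_of _ (by
    rw [hι.map_pow, show ι c₀ = c - (c - ι c₀) by ring]
    exact sub_mem hc (Ideal.pow_le_pow_right (Nat.le_add_right n N) hc₀))
  refine ⟨frac 𝔪 a ha n c₀ hc₀n, Ideal.mem_span_singleton'.2
    ⟨frac _ _ ha' (n + N) (c - ι c₀) hc₀, ?_⟩⟩
  rw [hν, comparison_chartHom hι a ha hν]
  refine mul_left_cancel₀ (pow_ne_zero n (nonZeroDivisors.ne_zero (chartHom_nonZeroDivisor _ _ ha'))) ?_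
  rw [mul_sub, pow_mul_frac, pow_mul_frac, ← mul_assoc, mul_comm _ (frac _ _ ha' (n + N) _ _), mul_assoc, ← pow_add,
    mul_comm, pow_mul_frac, map_sub]

include hna hν in
theorem approx_inj (N : ℕ) (z : Chart 𝔪 a ha) (hz : ν z ∈ Ideal.span {ν (chartHom 𝔪 a ha a) ^ N}) :
    z ∈ Ideal.span {chartHom 𝔪 a ha a ^ N} := by
  have ha' : ι a ∈ IsLocalRing.maximalIdeal B ^ 1 :=
    mem_cpl hι ha
  obtain ⟨ψ, -, hψA, hψf⟩ := chart_toFrac _ _ ha' (ι_ne_zero hι a hna)
  obtain ⟨n, c, hc, rfl⟩ := frac_surjective _ _ ha z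
  obtain ⟨w, hw⟩ := Ideal.mem_span_singleton'.1 hz
  obtain ⟨l, d, hd, rfl⟩ := frac_surjective _ _ ha' w
  rw [hν, comparison_chartHom hι a ha hν] at hw
  have h1 := congrArg ψ hw
  rw [map_mul, map_pow, hψA] at h1
  have h2 : ι (c * a ^ l) = ι a ^ (N + n) * d := by
    refine IsFractionRing.injective B (FractionRing B) ?_
    rw [map_mul (algebraMap B _), map_mul, map_mul (algebraMap B _), ← hψf l d hd,
      ← hψf n (ι c) (mem_cpl hι hc), ← h1]
    simp only [map_pow]
    ring
  have h3 : c * a ^ l ∈ Ideal.span {a ^ (N + n)} * 𝔪 ^ l := hι.mem_of _ (by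
    rw [h2, Ideal.map_mul, Ideal.map_span, Set.image_singleton, map_pow, hι.map_pow]
    exact Ideal.mul_mem_mul (Ideal.mem_span_singleton_self _) hd)
  obtain ⟨d₀, hd₀, hd₀'⟩ := Ideal.mem_span_singleton_mul.1 h3
  refine Ideal.mem_span_singleton'.2 ⟨frac _ _ ha l d₀ hd₀, ?_⟩
  rw [mul_comm, ← map_pow, chartHom_mul_frac]
  exact frac_eq_frac _ _ ha _ _ (by rw [mul_comm (a ^ l) c, ← hd₀', pow_add]; ring)

end Chart

/-- Local rings with the same residue rings modulo all powers of the maximal ideal have the same completion. -/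
theorem nonempty_cpl_equiv {R S : Type u} [CommRing R] [CommRing S] [IsLocalRing R] [IsLocalRing S] (φ : R →+* S)
    (hle : (IsLocalRing.maximalIdeal R).map φ ≤ IsLocalRing.maximalIdeal S)
    (hsurj : ∀ N (s : S), ∃ r, s - φ r ∈ IsLocalRing.maximalIdeal S ^ N)
    (hinj : ∀ N (r : R), φ r ∈ IsLocalRing.maximalIdeal S ^ N → r ∈ IsLocalRing.maximalIdeal R ^ N) :
    Nonempty (EGA4.Cpl R ≃+* EGA4.Cpl S) := by
  have hle' : ∀ N, IsLocalRing.maximalIdeal R ^ N ≤ (IsLocalRing.maximalIdeal S ^ N).comap φ := fun N => by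
    rw [← Ideal.map_le_iff_le_comap, Ideal.map_pow]
    exact Ideal.pow_right_mono hle N
  let q : ∀ N, R ⧸ IsLocalRing.maximalIdeal R ^ N →+* S ⧸ IsLocalRing.maximalIdeal S ^ N :=
    fun N => Ideal.quotientMap _ φ (hle' N)
  have hq : ∀ N, Function.Bijective (q N) := fun N => by
    refine ⟨(injective_iff_map_eq_zero _).2 fun z hz => ?_, fun z => ?_⟩
    · obtain ⟨r, rfl⟩ := Ideal.Quotient.mk_surjective z
      exact Ideal.Quotient.eq_zero_iff_mem.2 (hinj N r (Ideal.Quotient.eq_zero_iff_mem.1 hz))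
    · obtain ⟨s, rfl⟩ := Ideal.Quotient.mk_surjective z
      obtain ⟨r, hr⟩ := hsurj N s
      exact ⟨Ideal.Quotient.mk _ r, (Ideal.Quotient.eq.2 hr).symm⟩
  let e : ∀ N, (R ⧸ IsLocalRing.maximalIdeal R ^ N) ≃+* (S ⧸ IsLocalRing.maximalIdeal S ^ N) :=
    fun N => RingEquiv.ofBijective (q N) (hq N)
  have hnat : ∀ {m n : ℕ} (h : m ≤ n) z, Ideal.Quotient.factorPow _ h (q n z) = q m (Ideal.Quotient.factorPow _ h z) := by
    intro m n h z
    obtain ⟨r, rfl⟩ := Ideal.Quotient.mk_surjective z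
    rfl
  let evR := fun N => (AdicCompletion.evalₐ (IsLocalRing.maximalIdeal R) N).toRingHom
  let evS := fun N => (AdicCompletion.evalₐ (IsLocalRing.maximalIdeal S) N).toRingHom
  have hR : ∀ {m n : ℕ} (h : m ≤ n) x, Ideal.Quotient.factorPow _ h (evR n x) = evR m x := fun h x => by
    obtain ⟨y, rfl⟩ := AdicCompletion.mk_surjective (IsLocalRing.maximalIdeal R) R x
    simp only [evR, RingHom.coe_coe, AdicCompletion.evalₐ_mk]
    exact Ideal.Quotient.eq.2 ((SModEq.sub_mem).1 (by simpa using (y.2 h).symm))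
  have hS : ∀ {m n : ℕ} (h : m ≤ n) x, Ideal.Quotient.factorPow _ h (evS n x) = evS m x := fun h x => by
    obtain ⟨y, rfl⟩ := AdicCompletion.mk_surjective (IsLocalRing.maximalIdeal S) S x
    simp only [evS, RingHom.coe_coe, AdicCompletion.evalₐ_mk]
    exact Ideal.Quotient.eq.2 ((SModEq.sub_mem).1 (by simpa using (y.2 h).symm))
  let F : EGA4.Cpl R →+* EGA4.Cpl S := AdicCompletion.liftRingHom _ (fun N => (e N).toRingHom.comp (evR N))
    fun {m n} h => RingHom.ext fun x => (hnat h _).trans (congrArg (q m) (hR h x))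
  let G : EGA4.Cpl S →+* EGA4.Cpl R := AdicCompletion.liftRingHom _ (fun N => (e N).symm.toRingHom.comp (evS N))
    fun {m n} h => RingHom.ext fun x => (e m).injective <| by
      refine ((hnat h _).symm.trans ?_).trans ((e m).apply_symm_apply _).symm
      exact (congrArg _ ((e n).apply_symm_apply _)).trans (hS h x)
  have hF : ∀ N x, evS N (F x) = e N (evR N x) := fun N x =>
    congr($(AdicCompletion.evalₐ_comp_liftRingHom _ (fun N => (e N).toRingHom.comp (evR N)) _ N) x)
  have hG : ∀ N x, evR N (G x) = (e N).symm (evS N x) := fun N x =>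
    congr($(AdicCompletion.evalₐ_comp_liftRingHom _ (fun N => (e N).symm.toRingHom.comp (evS N)) _ N) x)
  exact ⟨RingEquiv.ofRingHom F G
    (RingHom.ext fun x => AdicCompletion.ext_evalₐ fun N => (hF N _).trans (by rw [hG, RingEquiv.apply_symm_apply]; rfl))
    (RingHom.ext fun x => AdicCompletion.ext_evalₐ fun N => (hG N _).trans (by rw [hF, RingEquiv.symm_apply_apply]; rfl))⟩

/-- A chart through a given point of the blow-up, together with the point. -/
theorem exists_chart_point [IsDomain A] {X : Scheme.{u}} (b : X ⟶ Spec (CommRingCat.of A))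
    (hb : BlowUp.IsBlowUp b (idealOf 𝔪)) [IsProper b] (x : X) (hx : IsClosed ({x} : Set X)) :
    ∃ (a : A) (ha : a ∈ 𝔪 ^ 1) (_ : a ≠ 0) (q : PrimeSpectrum (Chart 𝔪 a ha)),
      q.asIdeal.IsMaximal ∧ 𝔪 ≤ q.asIdeal.comap (chartHom 𝔪 a ha) ∧
      Nonempty (Localization.AtPrime q.asIdeal ≃+* X.presheaf.stalk x) := by
  obtain ⟨k, hk, -⟩ := hb.2 _ (reesToSpec 𝔪) (isBlowUp_rees 𝔪).1
  haveI := isIso_of_blowUps hb (isBlowUp_rees 𝔪) k hk
  obtain ⟨p, hp⟩ : ∃ p, k p = x := ⟨inv k x, by rw [← Scheme.Hom.comp_apply, IsIso.inv_hom_id]; rfl⟩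
  obtain ⟨⟨a, ha⟩, hpa⟩ := Opens.mem_iSup.1 ((iSup_chart (I := 𝔪)).ge (Set.mem_univ p))
  have hna : a ≠ 0 := by
    rintro rfl
    rw [Proj.mem_basicOpen] at hpa
    apply hpa
    rw [show mon 𝔪 1 (0 : A) ha = 0 from Subtype.ext (map_zero (Polynomial.monomial 1))]
    exact zero_mem _
  obtain ⟨w, hw⟩ : p ∈ (chartι 𝔪 a ha).opensRange := by rw [Proj.opensRange_awayι]; exact hpa
  let j := chartι 𝔪 a ha ≫ k
  have hjw : j w = x := by rw [Scheme.Hom.comp_apply]; exact (congrArg k hw).trans hp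
  have hwmax : w.asIdeal.IsMaximal := by
    rw [← PrimeSpectrum.isClosed_singleton_iff_isMaximal]
    have hs : ({w} : Set ↥(Spec (CommRingCat.of (Chart 𝔪 a ha)))) = j ⁻¹' {x} := by
      ext z
      exact ⟨fun h => (congrArg j (Set.mem_singleton_iff.1 h)).trans hjw,
        fun h => j.isOpenEmbedding.injective (h.trans hjw.symm)⟩
    rw [show ({w} : Set (PrimeSpectrum (Chart 𝔪 a ha))) = j ⁻¹' {x} from hs]
    exact hx.preimage j.continuous
  have hbx : b x = IsLocalRing.closedPoint A := by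
    have h1 : IsClosed ({b x} : Set (PrimeSpectrum A)) := by
      rw [← Set.image_singleton (f := b)]
      exact b.isClosedMap _ hx
    exact PrimeSpectrum.ext (IsLocalRing.eq_maximalIdeal ((PrimeSpectrum.isClosed_singleton_iff_isMaximal _).1 h1))
  have hjb : j ≫ b = Spec.map (CommRingCat.ofHom (chartHom 𝔪 a ha)) := by
    rw [Category.assoc, hk, chartι_reesToSpec]
  refine ⟨a, ha, hna, w, hwmax, ?_, ?_⟩
  · have h2 : Spec.map (CommRingCat.ofHom (chartHom 𝔪 a ha)) w = IsLocalRing.closedPoint A := by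
      rw [← hjb, Scheme.Hom.comp_apply, hjw, hbx]
    exact (congrArg PrimeSpectrum.asIdeal h2).ge
  · subst hjw
    exact ⟨(Spec.stalkIso _ w).commRingCatIsoToRingEquiv.symm.trans (asIso (j.stalkMap w)).commRingCatIsoToRingEquiv.symm⟩

theorem finiteType_chartHom {R : Type u} [CommRing R] [IsNoetherianRing R] (I : Ideal R) (a : R) (ha : a ∈ I ^ 1) :
    (chartHom I a ha).FiniteType := by
  haveI : IsProper (reesToSpec I) := isProper_blowUp (isBlowUp_rees I) fun U => by
    haveI : IsNoetherianRing Γ(Spec (CommRingCat.of R), U.1) := IsLocallyNoetherian.component_noetherian U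
    exact IsNoetherian.noetherian _
  haveI : LocallyOfFiniteType (Spec.map (CommRingCat.ofHom (chartHom I a ha))) := by
    rw [← chartι_reesToSpec I a ha]
    infer_instance
  exact (HasRingHomProperty.Spec_iff (P := @LocallyOfFiniteType)).1 this

variable [IsDomain A] [IsIntegrallyClosed A] [IsDomain B] [IsIntegrallyClosed B] [IsNoetherianRing B]

/-- The completed local rings at closed points of the blow-up of the closed point are normal domains when
all powers of the maximal ideal are integrally closed. -/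
theorem normal_cpl_stalk (hι : IsCplMap ι) (hexc : EGA4.IsExcellent B) (hP : ∀ M y, IntegralOverPow 𝔪 M y → y ∈ 𝔪 ^ M) {X : Scheme.{u}}
    (b : X ⟶ Spec (CommRingCat.of A)) (hb : BlowUp.IsBlowUp b (idealOf 𝔪)) [IsProper b] (x : X)
    (hx : IsClosed ({x} : Set X)) :
    IsDomain (EGA4.Cpl (X.presheaf.stalk x)) ∧ IsIntegrallyClosed (EGA4.Cpl (X.presheaf.stalk x)) := by
  obtain ⟨a, ha, hna, q, hq, hqm, ⟨e⟩⟩ := exists_chart_point b hb x hx
  have ha' : ι a ∈ IsLocalRing.maximalIdeal B ^ 1 :=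
    mem_cpl hι ha
  haveI := chart_isDomain _ _ ha hna
  haveI : IsDomain (cplChart hι a ha) := chart_isDomain _ _ ha' (ι_ne_zero hι a hna)
  haveI : IsIntegrallyClosed (cplChart hι a ha) :=
    chart_isIntegrallyClosed _ _ ha' (ι_ne_zero hι a hna) (mem_pow_cpl_of_integralOverPow hι hP)
  obtain ⟨ν, hν⟩ := exists_comparison hι a ha hna
  set α := chartHom 𝔪 a ha a
  have hαq : α ∈ q.asIdeal := hqm (by simpa using ha)
  -- the corresponding maximal ideal
  set q' := q.asIdeal.map ν
  have happ : ∀ N z, ∃ w, z - ν w ∈ (q' ^ N : Ideal (cplChart hι a ha)) := fun N z => by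
    obtain ⟨w, hw⟩ := approx_surj hι a ha hna hν N z
    refine ⟨w, ?_⟩
    rw [← Ideal.map_pow]
    exact (Ideal.span_le.2 (Set.singleton_subset_iff.2 (by
      rw [← map_pow]; exact Ideal.mem_map_of_mem _ (Ideal.pow_mem_pow hαq N)))) hw
  have hback : ∀ N w, ν w ∈ q' ^ N → w ∈ q.asIdeal ^ N := fun N w hw => by
    rw [← Ideal.map_pow] at hw
    have key : ∀ y ∈ (q.asIdeal ^ N).map ν, ∃ w₁ ∈ q.asIdeal ^ N, y - ν w₁ ∈ Ideal.span {ν α ^ N} := by
      intro y hy
      induction hy using Submodule.span_induction with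
      | mem y hy => obtain ⟨w₁, h1, rfl⟩ := hy; exact ⟨w₁, h1, by simp⟩
      | zero => exact ⟨0, zero_mem _, by simp⟩
      | add y z _ _ hy hz =>
        obtain ⟨w₁, h1, h1'⟩ := hy
        obtain ⟨w₂, h2, h2'⟩ := hz
        refine ⟨w₁ + w₂, add_mem h1 h2, ?_⟩
        rw [map_add, add_sub_add_comm]
        exact add_mem h1' h2'
      | smul c y _ hy =>
        obtain ⟨w₁, h1, h1'⟩ := hy
        obtain ⟨c₁, hc₁⟩ := approx_surj hι a ha hna hν N c
        refine ⟨c₁ * w₁, Ideal.mul_mem_left _ _ h1, ?_⟩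
        rw [smul_eq_mul, map_mul, show c * y - ν c₁ * ν w₁ = c * (y - ν w₁) + (c - ν c₁) * ν w₁ by ring]
        exact add_mem (Ideal.mul_mem_left _ _ h1') (Ideal.mul_mem_right _ _ hc₁)
    obtain ⟨w₁, h1, h1'⟩ := key _ hw
    rw [← map_sub] at h1'
    have h2 : w - w₁ ∈ q.asIdeal ^ N := (Ideal.span_le.2 (Set.singleton_subset_iff.2 (Ideal.pow_mem_pow hαq N)))
      (approx_inj hι a ha hna hν N _ h1')
    simpa using add_mem h2 h1
  haveI hq' : q'.IsMaximal := by
    rw [Ideal.isMaximal_iff]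
    refine ⟨fun h => hq.ne_top ((Ideal.eq_top_iff_one _).2 ?_), fun J y hJ hy hyJ => ?_⟩
    · have := hback 1 1 (by rw [map_one, pow_one]; exact h)
      rwa [pow_one] at this
    · obtain ⟨w, hw⟩ := happ 1 y
      rw [pow_one] at hw
      have hwq : w ∉ q.asIdeal := fun h => hy (by simpa using add_mem hw (Ideal.mem_map_of_mem ν h))
      obtain ⟨v, i, hi, hv⟩ := hq.exists_inv hwq
      have h3 : ν w ∈ J := by simpa using sub_mem hyJ (hJ hw)
      rw [show (1 : cplChart hι a ha) = ν v * ν w + ν i by rw [← map_mul, ← map_add, hv, map_one]]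
      exact add_mem (Ideal.mul_mem_left _ _ h3) (hJ (Ideal.mem_map_of_mem _ hi))
  have hcomap : q'.comap ν = q.asIdeal := le_antisymm
    (fun w hw => by simpa using hback 1 w (by rw [pow_one]; exact hw)) Ideal.le_comap_map
  let T := Localization.AtPrime q'
  let φ : Localization.AtPrime q.asIdeal →+* T := Localization.localRingHom q.asIdeal q' ν hcomap.symm
  haveI : IsDomain T := IsLocalization.isDomain_localization q'.primeCompl_le_nonZeroDivisors
  letI : Algebra B (cplChart hι a ha) := (chartHom _ _ ha').toAlgebra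
  haveI : Algebra.FiniteType B (cplChart hι a ha) := finiteType_chartHom _ _ ha'
  obtain ⟨-, hd, hn⟩ := Groth.L28.CplUnram.completion_normal_domain hexc
    (cplChart hι a ha) q' T
  haveI := hd
  haveI := hn
  have hm1 : ∀ N, IsLocalRing.maximalIdeal (Localization.AtPrime q.asIdeal) ^ N =
      (q.asIdeal ^ N).map (algebraMap _ _) := fun N => by
    rw [Ideal.map_pow, Localization.AtPrime.map_eq_maximalIdeal]
  have hm2 : ∀ N, IsLocalRing.maximalIdeal T ^ N = (q' ^ N).map (algebraMap _ _) := fun N => by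
    rw [Ideal.map_pow, Localization.AtPrime.map_eq_maximalIdeal]
  have hφ : ∀ w, φ (algebraMap _ _ w) = algebraMap _ _ (ν w) := fun w => Localization.localRingHom_to_map _ _ _ _ w
  have hle : (IsLocalRing.maximalIdeal (Localization.AtPrime q.asIdeal)).map φ ≤ IsLocalRing.maximalIdeal T := by
    rw [← Localization.AtPrime.map_eq_maximalIdeal, ← Localization.AtPrime.map_eq_maximalIdeal, Ideal.map_map]
    refine Ideal.map_le_iff_le_comap.2 fun w hw => ?_
    rw [Ideal.mem_comap, RingHom.comp_apply, hφ]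
    exact Ideal.mem_map_of_mem _ (Ideal.mem_map_of_mem _ hw)
  have hunit : ∀ (N : ℕ) (s : cplChart hι a ha), s ∉ q' → ∃ v, 1 - ν v * s ∈ q' ^ N := fun N s hs => by
    obtain ⟨v, i, hi, hv⟩ := hq'.exists_inv hs
    obtain ⟨v₁, hv₁⟩ := happ N (v * ∑ j ∈ Finset.range N, i ^ j)
    refine ⟨v₁, ?_⟩
    have hgeom := geom_sum_mul_neg i N
    rw [show 1 - ν v₁ * s = ((v * ∑ j ∈ Finset.range N, i ^ j) - ν v₁) * s +
        (1 - (∑ j ∈ Finset.range N, i ^ j) * (v * s)) by ring, show v * s = 1 - i by rw [← hv]; ring, hgeom]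
    refine add_mem (Ideal.mul_mem_right _ _ hv₁) ?_
    simpa using Ideal.pow_mem_pow hi N
  obtain ⟨E⟩ := nonempty_cpl_equiv φ hle
    (fun N t => by
      obtain ⟨⟨z, s⟩, hzs⟩ := IsLocalization.surj q'.primeCompl t
      obtain ⟨v, hv⟩ := hunit N s s.2
      obtain ⟨w, hw⟩ := happ N z
      refine ⟨algebraMap _ _ (v * w), ?_⟩
      rw [hm2, hφ, map_mul ν, show t - algebraMap _ T (ν v * ν w) =
          t * algebraMap _ T (1 - ν v * s) + algebraMap _ T (ν v) * algebraMap _ T (z - ν w) by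
        have hzs' : t * algebraMap _ T (s : cplChart hι a ha) = algebraMap _ T z := hzs
        rw [map_sub, map_sub, map_one, map_mul, map_mul, mul_sub, ← hzs']; ring]
      exact add_mem (Ideal.mul_mem_left _ _ (Ideal.mem_map_of_mem _ hv))
        (Ideal.mul_mem_left _ _ (Ideal.mem_map_of_mem _ hw)))
    (fun N r hr => by
      obtain ⟨⟨z, s⟩, hzs⟩ := IsLocalization.surj q.asIdeal.primeCompl r
      have h1 : algebraMap _ T (ν z) ∈ (q' ^ N).map (algebraMap _ T) := by
        rw [← hm2, ← hφ, show algebraMap _ _ z = r * algebraMap _ _ (s : Chart 𝔪 a ha) from hzs.symm, map_mul]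
        exact Ideal.mul_mem_right _ _ hr
      obtain ⟨u, hu, hu'⟩ := (IsLocalization.algebraMap_mem_map_algebraMap_iff q'.primeCompl _ _ _).1 h1
      obtain ⟨v, hv⟩ := hunit N u hu
      have h2 : ν z ∈ q' ^ N := by
        rw [show ν z = ν v * (u * ν z) + (1 - ν v * u) * ν z by ring]
        exact add_mem (Ideal.mul_mem_left _ _ hu') (Ideal.mul_mem_right _ _ hv)
      rw [hm1]
      have h3 : r * algebraMap _ _ (s : Chart 𝔪 a ha) ∈
          (q.asIdeal ^ N).map (algebraMap _ (Localization.AtPrime q.asIdeal)) :=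
        hzs.symm ▸ Ideal.mem_map_of_mem _ (hback N z h2)
      rwa [Ideal.mul_unit_mem_iff_mem _ (IsLocalization.map_units _ s)] at h3)
  have hm3 : (IsLocalRing.maximalIdeal (Localization.AtPrime q.asIdeal)).map e.toRingHom ≤
      IsLocalRing.maximalIdeal (X.presheaf.stalk x) := Ideal.map_le_iff_le_comap.2 fun r hr => by
    rw [Ideal.mem_comap, IsLocalRing.mem_maximalIdeal, mem_nonunits_iff]
    exact fun h => (IsLocalRing.mem_maximalIdeal r).1 hr ((isUnit_map_iff e r).1 h)
  have hm4 : ∀ N (r : Localization.AtPrime q.asIdeal), e r ∈ IsLocalRing.maximalIdeal (X.presheaf.stalk x) ^ N →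
      r ∈ IsLocalRing.maximalIdeal (Localization.AtPrime q.asIdeal) ^ N := fun N r hr => by
    have h := Ideal.mem_map_of_mem e.symm.toRingHom hr
    rw [Ideal.map_pow, show e.symm.toRingHom (e r) = r from e.symm_apply_apply r] at h
    refine Ideal.pow_right_mono (Ideal.map_le_iff_le_comap.2 fun z hz => ?_) N h
    rw [Ideal.mem_comap, IsLocalRing.mem_maximalIdeal, mem_nonunits_iff]
    exact fun h => (IsLocalRing.mem_maximalIdeal z).1 hz ((isUnit_map_iff e.symm z).1 h)
  obtain ⟨E'⟩ := nonempty_cpl_equiv e.toRingHom hm3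
    (fun N s => ⟨e.symm s, by rw [show e.toRingHom (e.symm s) = s from e.apply_symm_apply s, sub_self]; exact zero_mem _⟩)
    hm4
  let Et := E'.symm.trans E
  exact ⟨Et.injective.isDomain Et.toRingHom, IsIntegrallyClosed.of_equiv Et.symm⟩

end Groth.L05.RatPow
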