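import Groth.Agent.L05.RatPow.Spread
import Mathlib.RingTheory.EssentialFiniteness

/-! Rational singularities pass to essentially finite type birational normal extensions. -/

set_option autoImplicit false
set_option linter.style.haveILetI false
set_option maxSynthPendingDepth 5
set_option maxHeartbeats 1000000
set_option backward.isDefEq.respectTransparency false
set_option backward.isDefEq.respectTransparency.types false

universe u

open CategoryTheory CategoryTheory.Limits AlgebraicGeometry TopologicalSpace Opposite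
open Groth.L22 Groth.L13.BU

noncomputable section

namespace Groth.L05.RatSpread

open Groth.L05.MinDesing (IsBir)

variable {A B : Type u} [CommRing A] [CommRing B] [IsDomain A] [IsDomain B] [Algebra A B]

/-- A birational essentially finite type local extension is a local ring of a blow-up. -/
theorem exists_chart_localization [IsLocalRing B] [Algebra.EssFiniteType A B]
    (hinj : Function.Injective (algebraMap A B))
    (hfrac : ∀ b : B, ∃ a a' : A, a' ≠ 0 ∧ algebraMap A B a' * b = algebraMap A B a) :
    ∃ (I : Ideal A) (s : A) (hs : s ∈ I ^ 1) (_ : s ≠ 0) (q : PrimeSpectrum (Chart I s hs)),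
      Nonempty (Localization.AtPrime q.asIdeal ≃+* B) := by
  classical
  choose num den hden hnum using hfrac
  let G : Finset B := Algebra.EssFiniteType.finset A B
  let s : A := ∏ b ∈ G, den b
  have hs0 : s ≠ 0 := Finset.prod_ne_zero_iff.2 fun b _ => hden b
  let c : B → A := fun b => num b * ∏ d ∈ G.erase b, den d
  have hc : ∀ b ∈ G, algebraMap A B s * b = algebraMap A B (c b) := fun b hb => by
    show algebraMap A B (∏ d ∈ G, den d) * b = _
    rw [← Finset.mul_prod_erase G den hb, map_mul, map_mul, ← hnum b]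
    ring
  let I : Ideal A := Ideal.span (insert s (c '' (G : Set B)))
  have hs : s ∈ I ^ 1 := by rw [pow_one]; exact Ideal.subset_span (Set.mem_insert _ _)
  have hsB : algebraMap A B s ≠ 0 := fun h => hs0 (hinj (h.trans (map_zero _).symm))
  have hdvd : ∀ x ∈ I, algebraMap A B s ∣ algebraMap A B x := by
    intro x hx
    rw [← Ideal.mem_span_singleton, ← Ideal.mem_comap]
    refine Ideal.span_le.2 ?_ hx
    rintro x (rfl | ⟨b, hb, rfl⟩)
    · exact Ideal.mem_span_singleton_self _
    · exact Ideal.mem_span_singleton.2 ⟨b, (hc b hb).symm⟩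
  obtain ⟨ν, hν⟩ := exists_chart_lift I s hs (algebraMap A B) (mem_nonZeroDivisors_of_ne_zero hsB) hdvd
  have hνA : ∀ r, ν (chartHom I s hs r) = algebraMap A B r := fun r => congr($hν r)
  have hνf : ∀ n x hx, algebraMap A B s ^ n * ν (frac I s hs n x hx) = algebraMap A B x := fun n x hx => by
    rw [← hνA s, ← map_pow, ← map_mul]
    exact (congrArg ν (pow_mul_frac I s hs n x hx)).trans (hνA x)
  have hνi : Function.Injective ν := (injective_iff_map_eq_zero ν).2 fun z hz => by
    obtain ⟨n, x, hx, rfl⟩ := frac_surjective I s hs z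
    have h := hνf n x hx
    rw [hz, mul_zero] at h
    exact (Groth.L05.RatPow.chart_eq_zero_iff I s hs hs0 hx).2 (hinj (h.symm.trans (map_zero _).symm))
  have hrange : ∀ t ∈ Algebra.EssFiniteType.subalgebra A B, t ∈ ν.range := by
    intro t ht
    change t ∈ Algebra.adjoin A (G : Set B) at ht
    induction ht using Algebra.adjoin_induction with
    | mem b hb =>
      refine ⟨frac I s hs 1 (c b) (by rw [pow_one]; exact Ideal.subset_span (Set.mem_insert_of_mem _ ⟨b, hb, rfl⟩)),
        mul_left_cancel₀ hsB ?_⟩
      rw [hc b hb]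
      simpa using hνf 1 (c b) (by rw [pow_one]; exact Ideal.subset_span (Set.mem_insert_of_mem _ ⟨b, hb, rfl⟩))
    | algebraMap r => exact ⟨_, hνA r⟩
    | add x y _ _ hx hy => exact add_mem hx hy
    | mul x y _ _ hx hy => exact mul_mem hx hy
  let q : PrimeSpectrum (Chart I s hs) := ⟨(IsLocalRing.maximalIdeal B).comap ν, inferInstance⟩
  letI : Algebra (Chart I s hs) B := ν.toAlgebra
  haveI : IsLocalization q.asIdeal.primeCompl B := by
    refine
      { map_units := fun y => not_not.1 fun h => y.2 ((IsLocalRing.mem_maximalIdeal _).2 h)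
        surj := fun b => ?_
        exists_of_eq := fun {x y} h => ⟨1, by rw [hνi h]⟩ }
    obtain ⟨⟨t, ⟨v, hv⟩⟩, htv⟩ := IsLocalization.surj (Algebra.EssFiniteType.submonoid A B) b
    obtain ⟨t', ht'⟩ := hrange _ t.2
    obtain ⟨v', hv'⟩ := hrange _ v.2
    have hvu : IsUnit (v : B) := hv
    refine ⟨⟨t', ⟨v', fun h => (IsLocalRing.mem_maximalIdeal (ν v')).1 h (by rw [hv']; exact hvu)⟩⟩, ?_⟩
    show b * ν v' = ν t'
    rw [ht', hv']
    exact htv
  exact ⟨I, s, hs, hs0, q, ⟨(IsLocalization.algEquiv q.asIdeal.primeCompl (Localization.AtPrime q.asIdeal) B).toRingEquiv⟩⟩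

variable [IsLocalRing A] [IsLocalRing B] [IsNoetherianRing A] [IsIntegrallyClosed A]

/-- A birational normal two dimensional essentially finite type extension of a rational singularity is rational. -/
theorem isRationalSing_ext (hN : CAlg.IsNagata A) (hdimA : ringKrullDim A = 2)
    (hA : Curv2.IsRationalSing A) (hinj : Function.Injective (algebraMap A B))
    [Algebra.EssFiniteType A B] (hfrac : ∀ b : B, ∃ a a' : A, a' ≠ 0 ∧ algebraMap A B a' * b = algebraMap A B a)
    [IsIntegrallyClosed B] (hdimB : ringKrullDim B = 2) : Curv2.IsRationalSing B := by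
  obtain ⟨I, s, hs, hs0, w, ⟨e⟩⟩ := exists_chart_localization hinj hfrac
  let b := reesToSpec I
  have hb : BlowUp.IsBlowUp b (idealOf I) := isBlowUp_rees I
  have hIne : I ≠ ⊥ := fun h => hs0 (by rw [pow_one, h] at hs; exact hs)
  have hne : ((idealOf I).support.compl : Set (Spec (CommRingCat.of A))).Nonempty := by
    refine ⟨⟨⊥, Ideal.isPrime_bot⟩, fun hmem => hIne (eq_bot_iff.2 fun r hr => ?_)⟩
    rw [SetLike.mem_coe, Scheme.IdealSheafData.mem_support_iff_of_mem (U := ⟨⊤, isAffineOpen_top _⟩) (Set.mem_univ _),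
      idealOf_top] at hmem
    have h1 := (Scheme.mem_zeroLocus_iff _ _ _).1 hmem _ (Ideal.mem_map_of_mem _ hr)
    rw [basicOpen_eq_of_affine] at h1
    exact not_not.1 h1
  haveI := Groth.Agent.L13.BlowTwo.irreducible_blowUp b hb hne
  haveI := Groth.L05.RatPow.isReduced_blowUp b hb
  haveI := isIntegral_of_irreducibleSpace_of_isReduced (Proj (Rees.deg (reesAlgebra I)))
  haveI : IsProper b := isProper_blowUp hb fun U => by
    haveI : IsNoetherianRing Γ(Spec (CommRingCat.of A), U.1) := IsLocallyNoetherian.component_noetherian U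
    exact IsNoetherian.noetherian _
  haveI : IsLocallyNoetherian (Proj (Rees.deg (reesAlgebra I))) := LocallyOfFiniteType.isLocallyNoetherian b
  haveI : CompactSpace (Proj (Rees.deg (reesAlgebra I)) : Scheme.{u}) := QuasiCompact.compactSpace_of_compactSpace b
  have hNP := Groth.L05.PtSeq.isNagata_affineOpens_of_lft b (Groth.L05.RatPow.isNagata_opens_spec hN)
  haveI := Groth.L22.Norm.isFinite_normalizationι _ hNP
  obtain ⟨hi, hn, -, -⟩ := Groth.Agent.S2351.result (Proj (Rees.deg (reesAlgebra I)))
  haveI := hi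
  have hνb : IsBir (Curv2.normalizationι (Proj (Rees.deg (reesAlgebra I)))) := Groth.L22.BM.exists_isIso_normalizationι _
  let p := chartι I s hs w
  let ep : Localization.AtPrime w.asIdeal ≃+* (Proj (Rees.deg (reesAlgebra I))).presheaf.stalk p :=
    ((Spec.stalkIso (CommRingCat.of (Chart I s hs)) w).commRingCatIsoToRingEquiv.symm).trans
      (asIso ((chartι I s hs).stalkMap w)).commRingCatIsoToRingEquiv.symm
  let eB : B ≃+* (Proj (Rees.deg (reesAlgebra I))).presheaf.stalk p := e.symm.trans ep
  haveI : IsDomain ((Proj (Rees.deg (reesAlgebra I))).presheaf.stalk p) := eB.symm.injective.isDomain eB.symm.toRingHom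
  haveI : IsIntegrallyClosed ((Proj (Rees.deg (reesAlgebra I))).presheaf.stalk p) := IsIntegrallyClosed.of_equiv eB
  obtain ⟨z, hz, ⟨ez⟩⟩ := exists_point_finite _ hn hνb p
  letI : (Curv2.normalization (Proj (Rees.deg (reesAlgebra I)))).Over (Spec (CommRingCat.of A)) :=
    ⟨Curv2.normalizationι _ ≫ b⟩
  haveI : IsProper (Curv2.normalization (Proj (Rees.deg (reesAlgebra I))) ↘ Spec (CommRingCat.of A)) :=
    inferInstanceAs (IsProper (Curv2.normalizationι _ ≫ b))
  have hbir := Groth.L05.MinDesing.isBir_comp _ b hνb ⟨_, hne, Groth.L22.Ideals.isIso_restrict_compl hb⟩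
  have hR := isRationalSing_stalk hN hdimA hA hn hbir z (by
    rw [← ringKrullDim_eq_of_ringEquiv (eB.trans ez), hdimB])
  exact isRationalSing_of_equiv (eB.trans ez).symm hR

end Groth.L05.RatSpread
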