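import Groth.Agent.L05.RatPow.Completion
import Mathlib.RingTheory.IntegralClosure.IntegralRestrict

/-! The normalised affine blow-up algebras of an open ideal stay normal after completion. -/

set_option autoImplicit false
set_option linter.style.haveILetI false
set_option maxHeartbeats 1000000
set_option linter.unusedSectionVars false

universe u

open TensorProduct

noncomputable section

namespace Groth.L05.RatPow

section Sub

variable {A : Type u} [CommRing A] [IsDomain A] (K : Type u) [Field K] [Algebra A K] [IsFractionRing A K]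

/-- The affine blow-up algebra inside a field. -/
def chartSub (J : Ideal A) (a : A) : Subring K where
  carrier := {r | ∃ n c, c ∈ J ^ n ∧ a ∈ J ∧ algebraMap A K a ^ n * r = algebraMap A K c} ∪
    {r | a ∉ J ∧ ∃ c, r = algebraMap A K c}
  one_mem' := by
    by_cases ha : a ∈ J
    · exact .inl ⟨0, 1, by rw [pow_zero, Ideal.one_eq_top]; trivial, ha, by simp⟩
    · exact .inr ⟨ha, 1, (map_one _).symm⟩
  zero_mem' := by
    by_cases ha : a ∈ J
    · exact .inl ⟨0, 0, zero_mem _, ha, by simp⟩
    · exact .inr ⟨ha, 0, (map_zero _).symm⟩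
  mul_mem' := by
    rintro x y (⟨n, c, hc, ha, hx⟩ | ⟨ha, c, rfl⟩) (⟨m, d, hd, ha', hy⟩ | ⟨ha', d, rfl⟩)
    · refine .inl ⟨n + m, c * d, by rw [pow_add]; exact Ideal.mul_mem_mul hc hd, ha, ?_⟩
      rw [map_mul, ← hx, ← hy, pow_add]; ring
    · exact absurd ha ha'
    · exact absurd ha' ha
    · exact .inr ⟨ha, c * d, (map_mul _ _ _).symm⟩
  add_mem' := by
    rintro x y (⟨n, c, hc, ha, hx⟩ | ⟨ha, c, rfl⟩) (⟨m, d, hd, ha', hy⟩ | ⟨ha', d, rfl⟩)
    · refine .inl ⟨n + m, a ^ m * c + a ^ n * d, add_mem ?_ ?_, ha, ?_⟩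
      · rw [add_comm n m, pow_add]; exact Ideal.mul_mem_mul (Ideal.pow_mem_pow ha _) hc
      · rw [pow_add]; exact Ideal.mul_mem_mul (Ideal.pow_mem_pow ha _) hd
      · rw [map_add, map_mul, map_mul, map_pow, map_pow, ← hx, ← hy, pow_add]; ring
    · exact absurd ha ha'
    · exact absurd ha' ha
    · exact .inr ⟨ha, c + d, (map_add _ _ _).symm⟩
  neg_mem' := by
    rintro x (⟨n, c, hc, ha, hx⟩ | ⟨ha, c, rfl⟩)
    · exact .inl ⟨n, -c, neg_mem hc, ha, by rw [map_neg, ← hx, mul_neg]⟩
    · exact .inr ⟨ha, -c, (map_neg _ _).symm⟩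

variable {K}

theorem mem_chartSub {J : Ideal A} {a : A} (ha : a ∈ J) {r : K} :
    r ∈ chartSub K J a ↔ ∃ n c, c ∈ J ^ n ∧ algebraMap A K a ^ n * r = algebraMap A K c :=
  ⟨fun h => h.elim (fun ⟨n, c, hc, _, he⟩ => ⟨n, c, hc, he⟩) fun h => absurd ha h.1,
    fun ⟨n, c, hc, he⟩ => .inl ⟨n, c, hc, ha, he⟩⟩

theorem algebraMap_mem_chartSub {J : Ideal A} {a : A} (ha : a ∈ J) (c : A) : algebraMap A K c ∈ chartSub K J a :=
  (mem_chartSub ha).2 ⟨0, c, by rw [pow_zero, Ideal.one_eq_top]; trivial, by simp⟩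

/-- Elements integral over the affine blow-up algebra of a normal ring. -/
theorem exists_integralOverPow [IsIntegrallyClosed A] {J : Ideal A} {a : A} (ha : a ∈ J) (x : K)
    (hx : _root_.IsIntegral (chartSub K J a) x) :
    ∃ n y, IntegralOverPow J n y ∧ algebraMap A K a ^ n * x = algebraMap A K y := by
  classical
  obtain ⟨p, hp, hpx⟩ := hx
  choose m c hc hmc using fun i => (mem_chartSub ha).1 (p.coeff i).2
  set n := 1 + (Finset.range p.natDegree).sup m
  set k := p.natDegree
  have hn : ∀ i < k, m i ≤ n * (k - i) := fun i hi =>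
    le_trans (le_trans (Finset.le_sup (Finset.mem_range.2 hi)) (Nat.le_add_left _ 1))
      (Nat.le_mul_of_pos_right _ (Nat.sub_pos_of_lt hi))
  let d : ℕ → A := fun i => a ^ (n * (k - i) - m i) * c i
  have hd : ∀ i < k, d i ∈ J ^ (n * (k - i)) := fun i hi => by
    have h := Ideal.mul_mem_mul (Ideal.pow_mem_pow ha (n * (k - i) - m i)) (hc i)
    rwa [← pow_add, Nat.sub_add_cancel (hn i hi)] at h
  set T := algebraMap A K a
  have heq : (T ^ n * x) ^ k + ∑ i ∈ Finset.range k, algebraMap A K (d i) * (T ^ n * x) ^ i = 0 := by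
    have h1 : x ^ k + ∑ i ∈ Finset.range k, ((p.coeff i : chartSub K J a) : K) * x ^ i = 0 := by
      rw [Polynomial.eval₂_eq_sum_range, Finset.sum_range_succ, hp.coeff_natDegree, map_one, one_mul] at hpx
      rw [add_comm]; exact hpx
    calc _ = T ^ (n * k) * (x ^ k + ∑ i ∈ Finset.range k, ((p.coeff i : chartSub K J a) : K) * x ^ i) := by
          rw [mul_add, Finset.mul_sum, mul_pow, ← pow_mul]
          congr 1
          refine Finset.sum_congr rfl fun i hi => ?_
          have hik := Finset.mem_range.1 hi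
          rw [show d i = a ^ (n * (k - i) - m i) * c i from rfl, map_mul, map_pow, ← hmc i, mul_pow, ← pow_mul,
            show n * k = (n * (k - i) - m i) + m i + n * i by
              rw [Nat.sub_add_cancel (hn i hik), ← mul_add, Nat.sub_add_cancel hik.le], pow_add, pow_add]
          ring
      _ = 0 := by rw [h1, mul_zero]
  have hint : _root_.IsIntegral A (T ^ n * x) := by
    refine ⟨Polynomial.X ^ k + ∑ i ∈ Finset.range k, Polynomial.C (d i) * Polynomial.X ^ i,
      Polynomial.monic_X_pow_add ((Polynomial.degree_sum_le _ _).trans_lt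
        ((Finset.sup_lt_iff (WithBot.bot_lt_coe k)).2 fun i hi =>
          (Polynomial.degree_C_mul_X_pow_le i _).trans_lt (WithBot.coe_lt_coe.2 (Finset.mem_range.1 hi)))), ?_⟩
    simpa [Polynomial.eval₂_add, Polynomial.eval₂_finsetSum] using heq
  obtain ⟨y, hy⟩ := IsIntegrallyClosed.isIntegral_iff.1 hint
  refine ⟨n, y, ⟨k, d, hd, IsFractionRing.injective A K ?_⟩, hy.symm⟩
  rw [map_zero, ← heq, map_add, map_sum, map_pow, hy]
  simp only [map_mul, map_pow, hy]

end Sub

variable {A B : Type u} [CommRing A] [CommRing B] [IsDomain A] [IsDomain B] [IsIntegrallyClosed A] [IsIntegrallyClosed B]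
  [Algebra A B] [Module.FaithfullyFlat A B]

/-- Approximation of the elements integral over an ideal. -/
theorem exists_integralOverPow_sub {J : Ideal A} (hap : ∀ n (y : B), ∃ r, y - algebraMap A B r ∈ (J ^ n).map (algebraMap A B))
    {n : ℕ} {y : B} (hy : IntegralOverPow (J.map (algebraMap A B)) n y) :
    ∃ y₀, IntegralOverPow J n y₀ ∧ y - algebraMap A B y₀ ∈ (J ^ n).map (algebraMap A B) := by
  obtain ⟨k, d, hd, hy⟩ := hy
  set ι := algebraMap A B
  set L := (J ^ n).map ι with hL
  have hLp : ∀ j, L ^ j = (J ^ (n * j)).map ι := fun j => by rw [hL, ← Ideal.map_pow, ← pow_mul]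
  have hyk : y ^ k ∈ ∑ i ∈ Finset.range k, Ideal.span {y ^ i} * L ^ (k - i) := by
    rw [eq_neg_of_add_eq_zero_left hy, ← Finset.sum_neg_distrib]
    refine Ideal.sum_mem _ fun i hi => ?_
    rw [neg_mem_iff, mul_comm (d i)]
    refine mem_sum_of_mem (J := fun i => L ^ (k - i)) (Finset.mem_range.1 hi) ?_
    show d i ∈ L ^ (k - i)
    rw [hLp, Ideal.map_pow]
    exact hd i (Finset.mem_range.1 hi)
  obtain ⟨r, hr⟩ := hap n y
  have h2 := pow_mem_sum_shift (y₀ := ι r) hr hyk
  rw [show (∑ i ∈ Finset.range k, Ideal.span {ι r ^ i} * L ^ (k - i)) =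
      (∑ i ∈ Finset.range k, Ideal.span {r ^ i} * J ^ (n * (k - i))).map ι by
    rw [← Ideal.mapHom_apply, map_sum]
    refine Finset.sum_congr rfl fun i _ => ?_
    rw [Ideal.mapHom_apply, Ideal.map_mul, Ideal.map_span, Set.image_singleton, map_pow, hLp], ← map_pow] at h2
  rw [← Ideal.mem_comap, Ideal.comap_map_eq_self_of_faithfullyFlat] at h2
  obtain ⟨e, he, heq⟩ := exists_coeff_of_mem r _ k h2
  refine ⟨r, ⟨k, fun i => -e i, fun i hi => neg_mem (he i hi), ?_⟩, hr⟩
  rw [heq, ← Finset.sum_add_distrib]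
  exact Finset.sum_eq_zero fun i _ => by ring

/-- A normalised affine blow-up algebra tensored with the completion is a normal domain. -/
theorem isNormalDomain_tensor (R K C : Type u) [CommRing R] [Field K] [CommRing C] [Algebra A R] [Algebra R C] [Algebra A C]
  [IsScalarTower A R C] [Algebra R K] [Algebra C K] [IsScalarTower R C K] [IsFractionRing R K] [IsIntegralClosure C R K]
    {J : Ideal A} (hap : ∀ n (y : B), ∃ r, y - algebraMap A B r ∈ (J ^ n).map (algebraMap A B))
    {a : A} (ha : a ∈ J) (hna : a ≠ 0) (hR0 : Function.Injective (algebraMap A R))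
    (hR1 : ∀ j ∈ J, ∃ r : R, algebraMap A R a * r = algebraMap A R j)
    (hR2 : ∀ r : R, ∃ n c, c ∈ J ^ n ∧ algebraMap A R a ^ n * r = algebraMap A R c) :
    IsDomain (B ⊗[A] C) ∧ IsIntegrallyClosed (B ⊗[A] C) := by
  classical
  letI : Algebra A K := ((algebraMap R K).comp (algebraMap A R)).toAlgebra
  haveI : IsScalarTower A R K := IsScalarTower.of_algebraMap_eq fun _ => rfl
  haveI : IsScalarTower A C K := IsScalarTower.of_algebraMap_eq fun r => by
    rw [IsScalarTower.algebraMap_apply A R C, ← IsScalarTower.algebraMap_apply R C K]; rfl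
  have hAK : Function.Injective (algebraMap A K) := (IsFractionRing.injective R K).comp hR0
  have hCK : Function.Injective (algebraMap C K) := IsIntegralClosure.algebraMap_injective C R K
  haveI : IsDomain R := (IsFractionRing.injective R K).isDomain
  have hT : algebraMap A K a ≠ 0 := fun h => hna (hAK (h.trans (map_zero _).symm))
  haveI : FaithfulSMul A K := (faithfulSMul_iff_algebraMap_injective _ _).2 hAK
  haveI : IsFractionRing A K := IsFractionRing.of_field A K fun z => by
    obtain ⟨p, q, hq, rfl⟩ := IsFractionRing.div_surjective (A := R) z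
    obtain ⟨n, c, -, hc⟩ := hR2 p
    obtain ⟨m, d, -, hd⟩ := hR2 q
    refine ⟨c * a ^ m, d * a ^ n, ?_⟩
    have hc' := congrArg (algebraMap R K) hc
    have hd' := congrArg (algebraMap R K) hd
    rw [map_mul, map_pow, ← IsScalarTower.algebraMap_apply, ← IsScalarTower.algebraMap_apply] at hc' hd'
    have hqK : algebraMap R K q ≠ 0 := IsFractionRing.to_map_ne_zero_of_mem_nonZeroDivisors hq
    rw [map_mul, map_mul, ← hc', ← hd', map_pow, map_pow]
    field_simp
  have hRsub : ∀ r, algebraMap R K r ∈ chartSub K J a := fun r => by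
    obtain ⟨n, c, hc, he⟩ := hR2 r
    refine (mem_chartSub ha).2 ⟨n, c, hc, ?_⟩
    have := congrArg (algebraMap R K) he
    rwa [map_mul, map_pow, ← IsScalarTower.algebraMap_apply, ← IsScalarTower.algebraMap_apply] at this
  have hP1 : ∀ z : C, ∃ n y, IntegralOverPow J n y ∧ algebraMap A C a ^ n * z = algebraMap A C y := fun z => by
    have hz : _root_.IsIntegral R (algebraMap C K z) := (IsIntegralClosure.isIntegral_iff (A := C)).2 ⟨z, rfl⟩
    obtain ⟨p, hp, hpz⟩ := hz
    obtain ⟨n, y, hy, he⟩ := exists_integralOverPow ha (algebraMap C K z)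
      ⟨p.map ((algebraMap R K).codRestrict (chartSub K J a) hRsub), hp.map _, by
        rw [Polynomial.eval₂_map]; exact hpz⟩
    refine ⟨n, y, hy, hCK ?_⟩
    rw [map_mul, map_pow, ← IsScalarTower.algebraMap_apply, ← IsScalarTower.algebraMap_apply]
    exact he
  have hdiv : ∀ n, ∀ j ∈ J ^ n, ∃ r : R, algebraMap A R a ^ n * r = algebraMap A R j := by
    intro n
    induction n with
    | zero => exact fun j _ => ⟨algebraMap A R j, by rw [pow_zero, one_mul]⟩
    | succ n ih =>
      intro j hj
      rw [pow_succ] at hj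
      refine Submodule.mul_induction_on hj (fun p hp q hq => ?_) fun p q ⟨r, hr⟩ ⟨s, hs⟩ => ⟨r + s, by
        rw [mul_add, hr, hs, map_add]⟩
      obtain ⟨r, hr⟩ := ih p hp
      obtain ⟨s, hs⟩ := hR1 q hq
      exact ⟨r * s, by rw [map_mul, ← hr, ← hs, pow_succ]; ring⟩
  have hP2 : ∀ n y, IntegralOverPow J n y → ∃ z : C, algebraMap A C a ^ n * z = algebraMap A C y := by
    rintro n y ⟨k, d, hd, hy⟩
    choose r hr using fun i (hi : i < k) => hdiv (n * (k - i)) (d i) (hd i hi)
    let T := algebraMap A K a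
    let x : K := algebraMap A K y / T ^ n
    have hx : T ^ n * x = algebraMap A K y := mul_div_cancel₀ _ (pow_ne_zero _ hT)
    let r' : ℕ → R := fun i => if hi : i < k then r i hi else 0
    have hxi : _root_.IsIntegral R x := by
      refine ⟨Polynomial.X ^ k + ∑ i ∈ Finset.range k, Polynomial.C (r' i) * Polynomial.X ^ i,
        Polynomial.monic_X_pow_add ((Polynomial.degree_sum_le _ _).trans_lt
          ((Finset.sup_lt_iff (WithBot.bot_lt_coe k)).2 fun i hi =>
            (Polynomial.degree_C_mul_X_pow_le i _).trans_lt (WithBot.coe_lt_coe.2 (Finset.mem_range.1 hi)))), ?_⟩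
      simp only [Polynomial.eval₂_add, Polynomial.eval₂_finsetSum, Polynomial.eval₂_mul, Polynomial.eval₂_pow,
        Polynomial.eval₂_X, Polynomial.eval₂_C]
      refine mul_left_cancel₀ (pow_ne_zero (n * k) hT) ?_
      rw [mul_zero, ← map_zero (algebraMap A K), ← hy, map_add, map_sum, map_pow, mul_add, Finset.mul_sum, pow_mul,
        ← mul_pow, hx]
      congr 1
      refine Finset.sum_congr rfl fun i hi => ?_
      have hik := Finset.mem_range.1 hi
      have h1 := congrArg (algebraMap R K) (hr i hik)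
      rw [map_mul, map_pow, ← IsScalarTower.algebraMap_apply, ← IsScalarTower.algebraMap_apply] at h1
      rw [map_mul, map_pow, ← h1, ← hx, ← pow_mul, show r' i = r i hik from dif_pos hik, mul_pow, ← pow_mul,
        show n * k = n * (k - i) + n * i by rw [← mul_add, Nat.sub_add_cancel hik.le], pow_add]
      ring
    obtain ⟨z, hz⟩ := (IsIntegralClosure.isIntegral_iff (A := C)).1 hxi
    refine ⟨z, hCK ?_⟩
    rw [map_mul, map_pow, ← IsScalarTower.algebraMap_apply, ← IsScalarTower.algebraMap_apply, hz]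
    exact hx
  -- the comparison with the fraction field of `B`
  let L := FractionRing B
  have hAB : Function.Injective (algebraMap A B) := FaithfulSMul.algebraMap_injective A B
  have hAL : Function.Injective (algebraMap A L) := by
    rw [IsScalarTower.algebraMap_eq A B L]
    exact (IsFractionRing.injective B L).comp hAB
  let σ : C →ₐ[A] L :=
    { toRingHom := (IsFractionRing.lift (K := K) hAL).comp (algebraMap C K)
      commutes' := fun r => by
        show IsFractionRing.lift hAL (algebraMap C K (algebraMap A C r)) = _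
        rw [← IsScalarTower.algebraMap_apply, IsFractionRing.lift_algebraMap] }
  let Φ : B ⊗[A] C →ₐ[A] L :=
    Algebra.TensorProduct.lift (IsScalarTower.toAlgHom A B L) σ fun _ _ => Commute.all _ _
  have hΦ : ∀ b z, Φ (b ⊗ₜ[A] z) = algebraMap B L b * σ z := fun b z => Algebra.TensorProduct.lift_tmul _ _ _ b z
  have hclear : ∀ t : B ⊗[A] C, ∃ n b, a ^ n • t = b ⊗ₜ[A] (1 : C) := fun t => by
    induction t using TensorProduct.induction_on with
    | zero => exact ⟨0, 0, by rw [TensorProduct.zero_tmul, smul_zero]⟩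
    | tmul b z =>
      obtain ⟨n, y, -, hy⟩ := hP1 z
      refine ⟨n, y • b, ?_⟩
      rw [← TensorProduct.tmul_smul, Algebra.smul_def, map_pow, hy, Algebra.algebraMap_eq_smul_one,
        TensorProduct.smul_tmul]
    | add s t hs ht =>
      obtain ⟨n, b, hb⟩ := hs
      obtain ⟨m, c, hc⟩ := ht
      refine ⟨n + m, a ^ m • b + a ^ n • c, ?_⟩
      rw [smul_add, TensorProduct.add_tmul, ← TensorProduct.smul_tmul', ← TensorProduct.smul_tmul', ← hb, ← hc,
        ← mul_smul, ← mul_smul, ← pow_add, ← pow_add, add_comm m n]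
  have hreg : ∀ n, IsSMulRegular (B ⊗[A] C) (a ^ n) := fun n => by
    have h1 : IsSMulRegular C (a ^ n) := fun p q h => by
      refine hCK (mul_left_cancel₀ (pow_ne_zero n hT) ?_)
      have := congrArg (algebraMap C K) h
      simpa only [Algebra.smul_def, map_mul, ← IsScalarTower.algebraMap_apply, map_pow] using this
    exact h1.lTensor B
  have hΦi : Function.Injective Φ := (injective_iff_map_eq_zero Φ).2 fun t ht => by
    obtain ⟨n, b, hb⟩ := hclear t
    have h1 := congrArg Φ hb
    rw [map_smul, ht, smul_zero, hΦ, map_one, mul_one] at h1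
    rw [show b = 0 from IsFractionRing.injective B L (h1.symm.trans (map_zero _).symm), TensorProduct.zero_tmul] at hb
    exact hreg n (hb.trans (smul_zero _).symm)
  haveI hdom : IsDomain (B ⊗[A] C) := hΦi.isDomain
  refine ⟨hdom, ?_⟩
  letI : Algebra (B ⊗[A] C) L := Φ.toRingHom.toAlgebra
  haveI : FaithfulSMul (B ⊗[A] C) L := (faithfulSMul_iff_algebraMap_injective _ _).2 hΦi
  haveI : IsFractionRing (B ⊗[A] C) L := IsFractionRing.of_field _ _ fun x => by
    obtain ⟨p, q, -, rfl⟩ := IsFractionRing.div_surjective (A := B) x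
    exact ⟨p ⊗ₜ 1, q ⊗ₜ 1, by simp [RingHom.algebraMap_toAlgebra, hΦ]⟩
  refine (isIntegrallyClosed_iff L).2 fun {x} hx => ?_
  set JB := J.map (algebraMap A B)
  have haB : algebraMap A B a ∈ JB := Ideal.mem_map_of_mem _ ha
  set S := chartSub L JB (algebraMap A B a)
  have hC : ∀ t : B ⊗[A] C, Φ t ∈ integralClosure S L := fun t => by
    induction t using TensorProduct.induction_on with
    | zero => rw [map_zero]; exact zero_mem _
    | tmul b z =>
      rw [hΦ]
      refine mul_mem (isIntegral_algebraMap (R := S) (x := ⟨_, algebraMap_mem_chartSub haB b⟩)) ?_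
      obtain ⟨p, hp, hpz⟩ := (IsIntegralClosure.isIntegral_iff (A := C) (R := R) (B := K)).2 ⟨z, rfl⟩
      let f : R →+* L := (IsFractionRing.lift (K := K) hAL).comp (algebraMap R K)
      have hf : ∀ r, f r ∈ S := fun r => by
        obtain ⟨n, c, hc, he⟩ := hR2 r
        refine (mem_chartSub haB).2 ⟨n, algebraMap A B c, ?_, ?_⟩
        · rw [← Ideal.map_pow]; exact Ideal.mem_map_of_mem _ hc
        · rw [← IsScalarTower.algebraMap_apply, ← IsScalarTower.algebraMap_apply]
          have h := congrArg f he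
          rw [map_mul, map_pow] at h
          simp only [f, RingHom.comp_apply, ← IsScalarTower.algebraMap_apply, IsFractionRing.lift_algebraMap] at h
          exact h
      refine ⟨p.map (f.codRestrict S hf), hp.map _, ?_⟩
      rw [Polynomial.eval₂_map]
      show Polynomial.eval₂ f (IsFractionRing.lift hAL (algebraMap C K z)) p = 0
      rw [← Polynomial.hom_eval₂, hpz, map_zero]
    | add s t hs ht => rw [map_add]; exact add_mem hs ht
  have hxS : _root_.IsIntegral S x := by
    obtain ⟨p, hp, hpx⟩ := hx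
    refine isIntegral_trans (A := integralClosure S L) x
      ⟨p.map (Φ.toRingHom.codRestrict (integralClosure S L).toSubring hC), hp.map _, ?_⟩
    rw [Polynomial.eval₂_map]
    exact hpx
  obtain ⟨n, y, hy, hxy⟩ := exists_integralOverPow haB x hxS
  obtain ⟨y₀, hy₀, hsub⟩ := exists_integralOverPow_sub hap hy
  have hmem : ∀ w ∈ (J ^ n).map (algebraMap A B), ∃ t, algebraMap A L a ^ n * Φ t = algebraMap B L w := by
    intro w hw
    induction hw using Submodule.span_induction with
    | mem w hw =>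
      obtain ⟨j, hj, rfl⟩ := hw
      obtain ⟨r, hr⟩ := hdiv n j hj
      refine ⟨1 ⊗ₜ algebraMap R C r, ?_⟩
      rw [hΦ, map_one, one_mul, ← IsScalarTower.algebraMap_apply, ← σ.commutes, ← σ.commutes j, ← map_pow, ← map_mul,
        IsScalarTower.algebraMap_apply A R C, IsScalarTower.algebraMap_apply A R C, ← map_pow, ← map_mul, hr]
    | zero => exact ⟨0, by simp⟩
    | add v w _ _ hv hw =>
      obtain ⟨s, hs⟩ := hv
      obtain ⟨t, ht⟩ := hw
      exact ⟨s + t, by rw [map_add, mul_add, hs, ht, map_add]⟩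
    | smul c w _ hw =>
      obtain ⟨t, ht⟩ := hw
      refine ⟨c ⊗ₜ 1 * t, ?_⟩
      rw [map_mul, hΦ, map_one, mul_one, smul_eq_mul, map_mul, ← ht]
      ring
  obtain ⟨t, ht⟩ := hmem _ hsub
  obtain ⟨z, hz⟩ := hP2 n y₀ hy₀
  refine ⟨t + 1 ⊗ₜ z, ?_⟩
  show Φ _ = x
  have hTL : algebraMap A L a ≠ 0 := fun h => hna (hAL (h.trans (map_zero _).symm))
  refine mul_left_cancel₀ (pow_ne_zero n hTL) ?_
  have h1 : algebraMap A L a ^ n * σ z = algebraMap A L y₀ := by
    rw [← σ.commutes, ← σ.commutes y₀, ← map_pow, ← map_mul, hz]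
  rw [map_add, mul_add, ht, hΦ, map_one, one_mul, h1, IsScalarTower.algebraMap_apply A B L a, hxy,
    IsScalarTower.algebraMap_apply A B L y₀, ← map_add, sub_add_cancel]

end Groth.L05.RatPow
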