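import Groth.Agent.L05.RatPow.CplChart
import Groth.Agent.L22.BM.NormIso
import Groth.Agent.L22.Norm.Affine
import Groth.Agent.S2351
import Groth.Agent.L05.RatPow.Spread

/-! The normalised blow-up of an open ideal stays normal after completion. -/

set_option autoImplicit false
set_option linter.style.haveILetI false
set_option maxSynthPendingDepth 5
set_option maxHeartbeats 1000000
set_option backward.isDefEq.respectTransparency false
set_option backward.isDefEq.respectTransparency.types false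

universe u

open CategoryTheory CategoryTheory.Limits AlgebraicGeometry TopologicalSpace Opposite TensorProduct
open Groth.L22 Groth.L13.BU

noncomputable section

namespace Groth.L05.RatPow

variable {A B : Type u} [CommRing A] [CommRing B] [IsDomain A] [IsDomain B] [Algebra A B] [Module.FaithfullyFlat A B]

/-- A base change which is normal on an affine cover. -/
theorem isIntegral_normal_baseChange {Z : Scheme.{u}} [IsIntegral Z] (f : Z ⟶ Spec (CommRingCat.of A))
    (hbir : ∃ U : (Spec (CommRingCat.of A)).Opens, (U : Set (Spec (CommRingCat.of A))).Nonempty ∧ IsIso (f ∣_ U))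
    (h : ∀ z : Z, ∃ (V : Z.Opens) (hV : IsAffineOpen V) (φ : A →+* Γ(Z, V)), z ∈ V ∧ Function.Injective φ ∧
      hV.fromSpec ≫ f = Spec.map (CommRingCat.ofHom φ) ∧
      (letI := φ.toAlgebra; IsDomain (B ⊗[A] Γ(Z, V)) ∧ IsIntegrallyClosed (B ⊗[A] Γ(Z, V)))) :
    let Z' : Scheme.{u} := pullback f (Spec.map (CommRingCat.ofHom (algebraMap A B)))
    IsIntegral Z' ∧ Pi1.IsNormalScheme Z' ∧
      ∃ U : (Spec (CommRingCat.of B)).Opens, (U : Set (Spec (CommRingCat.of B))).Nonempty ∧
        IsIso (pullback.snd f (Spec.map (CommRingCat.ofHom (algebraMap A B))) ∣_ U) := by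
  intro Z'
  let β := Spec.map (CommRingCat.ofHom (algebraMap A B))
  let g : Z' ⟶ Z := pullback.fst f β
  let f' : Z' ⟶ Spec (CommRingCat.of B) := pullback.snd f β
  have hsq : IsPullback g f' f β := IsPullback.of_hasPullback _ _
  obtain ⟨W, hW, hiso⟩ := hbir
  have hηW : genericPoint (Spec (CommRingCat.of A)) ∈ W :=
    ((genericPoint_spec _).mem_open_set_iff W.2).2 (by simpa using hW)
  have hβ : β (genericPoint (Spec (CommRingCat.of B))) = genericPoint (Spec (CommRingCat.of A)) := by
    rw [genericPoint_eq_bot_of_affine, genericPoint_eq_bot_of_affine]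
    exact PrimeSpectrum.ext (Ideal.comap_bot_of_injective _ (FaithfulSMul.algebraMap_injective A B))
  haveI := hiso
  have hiso' : IsIso (f' ∣_ (β ⁻¹ᵁ W)) := Groth.L13.Nagata.isIso_restrict_of_isPullback hsq W _ fun _ h => h
  have hηB : genericPoint (Spec (CommRingCat.of B)) ∈ β ⁻¹ᵁ W := by
    show β _ ∈ W
    rw [hβ]; exact hηW
  haveI := hiso'
  have huniq : ∀ z₁ z₂ : Z', f' z₁ = genericPoint (Spec (CommRingCat.of B)) →
      f' z₂ = genericPoint (Spec (CommRingCat.of B)) → z₁ = z₂ := fun z₁ z₂ h₁ h₂ => by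
    have hm : ∀ z : Z', f' z = genericPoint (Spec (CommRingCat.of B)) → z ∈ f' ⁻¹ᵁ (β ⁻¹ᵁ W) := fun z hz => by
      show f' z ∈ β ⁻¹ᵁ W
      rw [hz]; exact hηB
    exact congrArg Subtype.val ((f' ∣_ (β ⁻¹ᵁ W)).homeomorph.injective (a₁ := ⟨z₁, hm z₁ h₁⟩) (a₂ := ⟨z₂, hm z₂ h₂⟩)
      (Subtype.ext ((morphismRestrict_base_coe f' _ ⟨z₁, hm z₁ h₁⟩).trans (h₁.trans (h₂.symm.trans
        (morphismRestrict_base_coe f' _ ⟨z₂, hm z₂ h₂⟩).symm)))))
  have key : ∀ z' : Z', (IsDomain (Z'.presheaf.stalk z') ∧ IsIntegrallyClosed (Z'.presheaf.stalk z')) ∧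
      ∃ ζ : Z', f' ζ = genericPoint (Spec (CommRingCat.of B)) ∧ ζ ⤳ z' := by
    intro z'
    obtain ⟨V, hV, φ, hzV, hφ, hfV, hn⟩ := h (g z')
    letI := φ.toAlgebra
    obtain ⟨hd, hc⟩ := hn
    haveI : IsDomain (B ⊗[A] Γ(Z, V)) := hd
    haveI : IsIntegrallyClosed (B ⊗[A] Γ(Z, V)) := hc
    let inl := CommRingCat.ofHom (Algebra.TensorProduct.includeLeftRingHom : B →+* B ⊗[A] Γ(Z, V))
    let inr := CommRingCat.ofHom (Algebra.TensorProduct.includeRight : Γ(Z, V) →ₐ[A] B ⊗[A] Γ(Z, V)).toRingHom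
    have hT : IsPullback (Spec.map inr) (Spec.map inl) (hV.fromSpec ≫ f) β := by
      rw [hfV]
      exact (isPullback_SpecMap_of_isPushout _ _ _ _ (CommRingCat.isPushout_tensorProduct A B Γ(Z, V))).flip
    let k : Spec (CommRingCat.of (B ⊗[A] Γ(Z, V))) ⟶ Z' :=
      pullback.lift (Spec.map inr ≫ hV.fromSpec) (Spec.map inl) (by rw [Category.assoc]; exact hT.w)
    have hk : IsPullback (Spec.map inr) k hV.fromSpec g := by
      refine IsPullback.of_bot (v₂₁ := f') (v₂₂ := f) ?_ (pullback.lift_fst _ _ _).symm hsq.flip.flip |> fun h => h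
      rw [pullback.lift_snd]
      exact hT
    haveI : IsOpenImmersion k := MorphismProperty.of_isPullback hk inferInstance
    obtain ⟨w, -, hw⟩ := Scheme.exists_preimage_of_isPullback hk (hV.primeIdealOf ⟨g z', hzV⟩) z'
      (hV.fromSpec_primeIdealOf ⟨g z', hzV⟩)
    subst hw
    refine ⟨?_, k (genericPoint (Spec (CommRingCat.of (B ⊗[A] Γ(Z, V))))), ?_,
      ((genericPoint_spec _).specializes trivial).map k.continuous⟩
    · let e : Localization.AtPrime (PrimeSpectrum.asIdeal w) ≃+* Z'.presheaf.stalk (k w) :=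
        ((Spec.stalkIso (CommRingCat.of (B ⊗[A] Γ(Z, V))) w).commRingCatIsoToRingEquiv.symm).trans
          (asIso (k.stalkMap w)).commRingCatIsoToRingEquiv.symm
      haveI := IsLocalization.isDomain_localization (PrimeSpectrum.asIdeal w).primeCompl_le_nonZeroDivisors
      haveI : IsIntegrallyClosed (Localization.AtPrime (PrimeSpectrum.asIdeal w)) :=
        isIntegrallyClosed_of_isLocalization _ (PrimeSpectrum.asIdeal w).primeCompl
          (PrimeSpectrum.asIdeal w).primeCompl_le_nonZeroDivisors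
      exact ⟨e.symm.injective.isDomain e.symm.toRingHom, IsIntegrallyClosed.of_equiv e⟩
    · rw [← Scheme.Hom.comp_apply, pullback.lift_snd, genericPoint_eq_bot_of_affine, genericPoint_eq_bot_of_affine]
      refine PrimeSpectrum.ext (Ideal.comap_bot_of_injective inl.hom ?_)
      exact Algebra.TensorProduct.includeLeft_injective (S := A) hφ
  haveI : Nonempty Z' := by
    obtain ⟨x, -⟩ := (f' ∣_ (β ⁻¹ᵁ W)).homeomorph.surjective ⟨_, hηB⟩
    exact ⟨x.1⟩
  obtain ⟨-, ζ, hζ, -⟩ := key (Classical.arbitrary Z')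
  have hgen : ∀ z : Z', ζ ⤳ z := fun z => by
    obtain ⟨-, ζ', hζ', hspec⟩ := key z
    rw [huniq ζ ζ' hζ hζ']; exact hspec
  haveI : IrreducibleSpace ↥Z' :=
    { isPreirreducible_univ := by
        rw [show (Set.univ : Set ↥Z') = closure {ζ} from
          (Set.eq_univ_of_forall fun z => specializes_iff_mem_closure.1 (hgen z)).symm]
        exact isPreirreducible_singleton.closure
      toNonempty := ⟨ζ⟩ }
  haveI : IsReduced Z' := by
    haveI : ∀ z, _root_.IsReduced (Z'.presheaf.stalk z) := fun z => by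
      haveI := (key z).1.1
      infer_instance
    exact isReduced_of_isReduced_stalk _
  exact ⟨isIntegral_of_irreducibleSpace_of_isReduced Z', fun z => (key z).1, ⟨_, ⟨_, hηB⟩, hiso'⟩⟩

variable [IsLocalRing A] [IsNoetherianRing A] [IsIntegrallyClosed A] [IsIntegrallyClosed B]

/-- The normalised blow-up of an ideal with approximable powers, and its base change. -/
theorem exists_normal_modification (hN : CAlg.IsNagata A) {J : Ideal A} (hJ : J ≠ ⊥)
    (hap : ∀ n (y : B), ∃ r, y - algebraMap A B r ∈ (J ^ n).map (algebraMap A B)) :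
    ∃ (Z : Scheme.{u}) (f : Z ⟶ Spec (CommRingCat.of A)), IsProper f ∧ IsIntegral Z ∧ Pi1.IsNormalScheme Z ∧
      (∃ U : (Spec (CommRingCat.of A)).Opens, (U : Set (Spec (CommRingCat.of A))).Nonempty ∧ IsIso (f ∣_ U)) ∧
      BlowUp.IsEffCartierIdeal ((idealOf J).comap f) ∧
      let Z' : Scheme.{u} := pullback f (Spec.map (CommRingCat.ofHom (algebraMap A B)))
      IsIntegral Z' ∧ Pi1.IsNormalScheme Z' ∧
        ∃ U : (Spec (CommRingCat.of B)).Opens, (U : Set (Spec (CommRingCat.of B))).Nonempty ∧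
          IsIso (pullback.snd f (Spec.map (CommRingCat.ofHom (algebraMap A B))) ∣_ U) := by
  let b := reesToSpec J
  have hb : BlowUp.IsBlowUp b (idealOf J) := isBlowUp_rees J
  have hne : ((idealOf J).support.compl : Set (Spec (CommRingCat.of A))).Nonempty := by
    refine ⟨⟨⊥, Ideal.isPrime_bot⟩, fun hmem => hJ (eq_bot_iff.2 fun r hr => ?_)⟩
    rw [SetLike.mem_coe, Scheme.IdealSheafData.mem_support_iff_of_mem (U := ⟨⊤, isAffineOpen_top _⟩) (Set.mem_univ _),
      idealOf_top] at hmem
    have h1 := (Scheme.mem_zeroLocus_iff _ _ _).1 hmem _ (Ideal.mem_map_of_mem _ hr)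
    rw [basicOpen_eq_of_affine] at h1
    exact not_not.1 h1
  let P := Proj (Rees.deg (reesAlgebra J))
  haveI : IrreducibleSpace P := Groth.Agent.L13.BlowTwo.irreducible_blowUp b hb hne
  haveI : IsReduced P := isReduced_blowUp b hb
  haveI : IsIntegral P := isIntegral_of_irreducibleSpace_of_isReduced P
  haveI : IsProper b := isProper_blowUp hb fun U => by
    haveI : IsNoetherianRing Γ(Spec (CommRingCat.of A), U.1) := IsLocallyNoetherian.component_noetherian U
    exact IsNoetherian.noetherian _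
  haveI : IsLocallyNoetherian P := LocallyOfFiniteType.isLocallyNoetherian b
  haveI : CompactSpace P := QuasiCompact.compactSpace_of_compactSpace b
  have hNP := Groth.L05.PtSeq.isNagata_affineOpens_of_lft b (isNagata_opens_spec hN)
  haveI := Groth.L22.Norm.isFinite_normalizationι P hNP
  obtain ⟨hi, hn, -, ⟨hgen, -⟩⟩ := Groth.Agent.S2351.result P
  haveI := hi
  let ν := Curv2.normalizationι P
  have hbir : Groth.L05.MinDesing.IsBir (ν ≫ b) := Groth.L05.MinDesing.isBir_comp ν b
    (Groth.L22.BM.exists_isIso_normalizationι P) ⟨_, hne, Groth.L22.Ideals.isIso_restrict_compl hb⟩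
  refine ⟨Curv2.normalization P, ν ≫ b, inferInstance, hi, hn, hbir, ?_,
    isIntegral_normal_baseChange (B := B) (ν ≫ b) hbir fun z => ?_⟩
  · rw [Scheme.IdealSheafData.comap_comp]
    exact Groth.L05.RatSpread.isEffCartier_comap ν hgen hb.1
  obtain ⟨⟨a, ha⟩, hza⟩ := Opens.mem_iSup.1 ((iSup_chart (I := J)).ge (Set.mem_univ (ν z)))
  have hna : a ≠ 0 := by
    rintro rfl
    rw [Proj.mem_basicOpen] at hza
    apply hza
    rw [show mon J 1 (0 : A) ha = 0 from Subtype.ext (map_zero (Polynomial.monomial 1))]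
    exact zero_mem _
  let j := chartι J a ha
  let U : P.Opens := j ''ᵁ ⊤
  have hU : IsAffineOpen U := (isAffineOpen_top _).image_of_isOpenImmersion j
  have hzU : ν z ∈ U := by
    show ν z ∈ j ''ᵁ ⊤
    rw [Scheme.Hom.image_top_eq_opensRange, Proj.opensRange_awayι]; exact hza
  have hUne : (U : Set P).Nonempty := ⟨_, hzU⟩
  haveI : Nonempty U := hUne.to_subtype
  have hV : IsAffineOpen (ν ⁻¹ᵁ U) := hU.preimage ν
  let R := Γ(P, U)
  let C := Γ(Curv2.normalization P, ν ⁻¹ᵁ U)
  let φ₀ : A →+* R := ((Scheme.ΓSpecIso (CommRingCat.of A)).inv ≫ b.appLE ⊤ U (fun _ _ => trivial)).hom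
  let φ : A →+* C := (ν.app U).hom.comp φ₀
  have hφ₀ : hU.fromSpec ≫ b = Spec.map (CommRingCat.ofHom φ₀) := by
    rw [← IsAffineOpen.SpecMap_appLE_fromSpec b (isAffineOpen_top _) hU (fun _ _ => trivial),
      IsAffineOpen.fromSpec_top, Scheme.isoSpec_Spec_inv, ← Spec.map_comp]
    rfl
  have hφ : hV.fromSpec ≫ ν ≫ b = Spec.map (CommRingCat.ofHom φ) := by
    rw [← Category.assoc, ← IsAffineOpen.SpecMap_appLE_fromSpec ν hU hV le_rfl, Category.assoc, hφ₀, ← Spec.map_comp,
      ← Scheme.Hom.app_eq_appLE]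
    rfl
  let e : R ≃+* Chart J a ha := (j.appIso ⊤ ≪≫ Scheme.ΓSpecIso (CommRingCat.of (Chart J a ha))).commRingCatIsoToRingEquiv
  have he : ∀ r, e (φ₀ r) = chartHom J a ha r := fun r => by
    show (((Scheme.ΓSpecIso (CommRingCat.of A)).inv ≫ b.appLE ⊤ U (fun _ _ => trivial)) ≫
      (j.appIso ⊤).hom ≫ (Scheme.ΓSpecIso (CommRingCat.of (Chart J a ha))).hom).hom r = _
    rw [Scheme.Hom.appIso_hom', Category.assoc, Scheme.Hom.appLE_comp_appLE_assoc]
    have hj : j ≫ b = Spec.map (CommRingCat.ofHom (chartHom J a ha)) := chartι_reesToSpec J a ha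
    simp only [Scheme.Hom.appLE]
    simp
    have h1 : (j ≫ b).app ⊤ = (Spec.map (CommRingCat.ofHom (chartHom J a ha))).appTop := by rw [hj]
    have h2 : j.app ⊤ (b.app ⊤ ((Scheme.ΓSpecIso (CommRingCat.of A)).inv r)) =
        (Scheme.ΓSpecIso (CommRingCat.of (Chart J a ha))).inv (chartHom J a ha r) :=
      (congr($h1 ((Scheme.ΓSpecIso (CommRingCat.of A)).inv r))).trans
        congr($(Scheme.ΓSpecIso_inv_naturality (CommRingCat.ofHom (chartHom J a ha))) r).symm
    exact (congrArg _ h2).trans (by simp)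
  have hinv : ∀ r, e.symm (chartHom J a ha r) = φ₀ r := fun r => by rw [← he, RingEquiv.symm_apply_apply]
  letI : Algebra A R := φ₀.toAlgebra
  letI algRC : Algebra R C := (ν.app U).hom.toAlgebra
  letI : Algebra A C := φ.toAlgebra
  haveI : IsScalarTower A R C := IsScalarTower.of_algebraMap_eq fun _ => rfl
  obtain ⟨κ, hT, hIC⟩ := Groth.L22.Norm.exists_isIntegralClosure P hU hUne
  letI := κ.toAlgebra
  haveI : IsScalarTower R C P.functionField := hT
  haveI : IsIntegralClosure C R P.functionField := hIC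
  haveI : IsFractionRing R P.functionField := functionField_isFractionRing_of_isAffineOpen P U hU
  have hR0 : Function.Injective (algebraMap A R) := fun r s hrs => by
    obtain ⟨ψ, -, hψ, -⟩ := chart_toFrac J a ha hna
    have h1 : chartHom J a ha r = chartHom J a ha s := by
      rw [← he, ← he]; exact congrArg e hrs
    have h2 := congrArg ψ h1
    rw [hψ, hψ] at h2
    exact IsFractionRing.injective A (FractionRing A) h2
  have hφi : Function.Injective φ := by
    intro r s hrs
    refine hR0 (IsFractionRing.injective R P.functionField ?_)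
    rw [IsScalarTower.algebraMap_apply R C P.functionField, IsScalarTower.algebraMap_apply R C P.functionField]
    exact congrArg _ hrs
  refine ⟨ν ⁻¹ᵁ U, hV, φ, hzU, hφi, hφ, ?_⟩
  refine isNormalDomain_tensor R P.functionField C hap (by simpa using ha) hna hR0
    (fun x hx => ⟨e.symm (frac J a ha 1 x (by rwa [pow_one])), e.injective ?_⟩) (fun r => ?_)
  · show e (φ₀ a * _) = e (φ₀ x)
    rw [map_mul, he, he, RingEquiv.apply_symm_apply]
    simpa using pow_mul_frac J a ha 1 x (by rwa [pow_one])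
  · obtain ⟨n, c, hc, hr⟩ := frac_surjective J a ha (e r)
    refine ⟨n, c, hc, e.injective ?_⟩
    show e (φ₀ a ^ n * r) = e (φ₀ c)
    rw [map_mul, map_pow, he, he]
    rw [show e r = _ from hr.symm]
    exact pow_mul_frac J a ha n c hc

end Groth.L05.RatPow
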