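import Groth.Agent.L05.RatPow.Normal
import Groth.Agent.L20.Infinitesimal.Flat
import Groth.Agent.L04.CMBasic
import Groth.Agent.L07.SyntCM
import Groth.Agent.L06.NormalAscent
import Groth.Agent.L04.CMLoc
import Mathlib.AlgebraicGeometry.ZariskisMainTheorem

/-! The exceptional divisor of the blow-up of a rational surface singularity. -/

set_option autoImplicit false
set_option linter.style.haveILetI false
set_option backward.isDefEq.respectTransparency false
set_option backward.isDefEq.respectTransparency.types false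

universe u

open CategoryTheory CategoryTheory.Limits AlgebraicGeometry TopologicalSpace Opposite
open Groth.L22 Groth.L13.BU

noncomputable section

namespace Groth.L05.RatPow

/-- A Cohen–Macaulay local ring modulo a regular element is Cohen–Macaulay. -/
theorem isCM_quotient_span {R : Type u} [CommRing R] (hR : LocCoh.IsCohenMacaulayLocalRing R) {g : R}
    (hg : IsSMulRegular R g) (hgm : ¬IsUnit g) :
    LocCoh.IsCohenMacaulayLocalRing (R ⧸ Ideal.span ({g} : Set R)) := by
  haveI := hR
  have hI : ∀ r ∈ [g], r ∈ IsLocalRing.maximalIdeal R := fun r hr => by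
    rw [List.mem_singleton] at hr; subst hr; exact (IsLocalRing.mem_maximalIdeal _).2 hgm
  have hof : Ideal.ofList [g] = Ideal.span ({g} : Set R) := Ideal.ofList_singleton g
  have hne : Ideal.ofList [g] ≠ ⊤ := by rw [hof]; exact fun h => hgm (Ideal.span_singleton_eq_top.1 h)
  haveI := Groth.L01.isLocalRing_quotient hne
  have hM := Groth.L04.isCohenMacaulayModule_quotient_ofList (M := R)
    hR.supportDim_eq_depth ((RingTheory.Sequence.isWeaklyRegular_singleton_iff R g).2 hg) hI
  have hsm : (Ideal.ofList [g] • (⊤ : Submodule R R)) = Ideal.ofList [g] := by rw [smul_eq_mul, Ideal.mul_top]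
  let el := Submodule.quotEquivOfEq _ _ hsm
  unfold LocCoh.IsCohenMacaulayModule at hM
  rw [Module.supportDim_eq_of_equiv el, Module.supportDim_quotient_eq_ringKrullDim, LocCoh.depth,
    Groth.L04.idealDepth_congr el,
    Groth.L04.idealDepth_eq_idealDepth_map_of_finite (B := R ⧸ Ideal.ofList [g]) (IsLocalRing.maximalIdeal R)
      (R ⧸ Ideal.ofList [g]),
    show (IsLocalRing.maximalIdeal R).map (algebraMap R (R ⧸ Ideal.ofList [g])) =
      IsLocalRing.maximalIdeal (R ⧸ Ideal.ofList [g]) from
      (Groth.L01.maximalIdeal_quotient_eq_map).symm, ← LocCoh.depth] at hM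
  exact Groth.L07.Synt.isCM_ringEquiv (Ideal.quotEquivOfEq hof)
    { supportDim_eq_depth := by rw [Module.supportDim_self_eq_ringKrullDim]; exact hM }

variable {A : Type u} [CommRing A] [IsDomain A] [IsLocalRing A] [IsNoetherianRing A] {X : Scheme.{u}}
  (f : X ⟶ Spec (CommRingCat.of A)) [IsIntegral X]

local notation "𝔪" => IsLocalRing.maximalIdeal A

omit [IsDomain A] in
theorem dim_le_two (hdim : ringKrullDim A = 2) [LocallyOfFiniteType f]
    (hbir : ∃ U : (Spec (CommRingCat.of A)).Opens, (U : Set (Spec (CommRingCat.of A))).Nonempty ∧ IsIso (f ∣_ U))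
    (x : X) : ringKrullDim (X.presheaf.stalk x) ≤ 2 := by
  obtain ⟨U, ⟨y, hy⟩, hU⟩ := hbir
  obtain ⟨z, -⟩ := (f ∣_ U).homeomorph.surjective ⟨y, hy⟩
  refine (Groth.L13.ModFibre.ringKrullDim_stalk_le f U ⟨z.1, z.2⟩ x).trans ?_
  refine (Groth.L13.ModFibre.ringKrullDim_stalk_le_topologicalKrullDim _).trans ?_
  exact ((PrimeSpectrum.topologicalKrullDim_eq_ringKrullDim A).trans hdim).le

omit [IsDomain A] in
/-- The local rings of the exceptional divisor are Cohen–Macaulay. -/
theorem isCM_exceptional (hdim : ringKrullDim A = 2) [LocallyOfFiniteType f] (hn : Pi1.IsNormalScheme X)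
    (hbir : ∃ U : (Spec (CommRingCat.of A)).Opens, (U : Set (Spec (CommRingCat.of A))).Nonempty ∧ IsIso (f ∣_ U))
    (hE : BlowUp.IsEffCartierIdeal (J f)) (e : ↥(J f).subscheme) :
    LocCoh.IsCohenMacaulayLocalRing ((J f).subscheme.presheaf.stalk e) := by
  haveI : IsLocallyNoetherian X := LocallyOfFiniteType.isLocallyNoetherian f
  set x := (J f).subschemeι e
  haveI := (hn x).1
  haveI := (hn x).2
  have hCM : LocCoh.IsCohenMacaulayLocalRing (X.presheaf.stalk x) := by
    by_cases h : ringKrullDim (X.presheaf.stalk x) ≤ 1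
    · haveI := Groth.L06.NormalAscent.regular_of_normal_dim_le_one h
      exact Groth.L04.isCohenMacaulayLocalRing_of_regular _
    · have hdep := Groth.L06.NormalAscent.two_le_depth_of_normal h
      refine { supportDim_eq_depth := le_antisymm ?_ Groth.L04.depth_le_supportDim }
      rw [Module.supportDim_self_eq_ringKrullDim]
      exact (dim_le_two f hdim hbir x).trans ((WithBot.coe_le_coe (a := (2 : ℕ∞))).mpr hdep)
  obtain ⟨U, hxU, g, hg, hgI⟩ := hE x
  have hker : RingHom.ker ((J f).subschemeι.stalkMap e).hom =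
      Ideal.span {(X.presheaf.germ U.1 x hxU).hom g} := by
    rw [Groth.L20.Infinitesimal.ker_stalkMap, Scheme.IdealSheafData.ker_subschemeι,
      Groth.L20.SeeNormal.sI_eq _ U hxU, hgI, Ideal.map_span, Set.image_singleton]
  set γ := (X.presheaf.germ U.1 x hxU).hom g
  haveI : Nonempty U.1 := ⟨⟨x, hxU⟩⟩
  have hγ : γ ≠ 0 := fun h0 => nonZeroDivisors.ne_zero hg
    (germ_injective_of_isIntegral X x hxU (h0.trans (map_zero _).symm))
  have hu : ¬IsUnit γ := fun h => by
    have h0 : ((J f).subschemeι.stalkMap e).hom γ = 0 := by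
      rw [← RingHom.mem_ker, hker]; exact Ideal.mem_span_singleton_self γ
    have h1 := h.map ((J f).subschemeι.stalkMap e).hom
    rw [h0, isUnit_zero_iff] at h1
    exact zero_ne_one h1
  exact Groth.L07.Synt.isCM_ringEquiv
    ((Ideal.quotEquivOfEq hker.symm).trans
      (RingHom.quotientKerEquivOfSurjective ((J f).subschemeι.stalkMap_surjective e)))
    (isCM_quotient_span hCM (IsLeftRegular.isSMulRegular (IsRegular.of_ne_zero hγ).left) hu)

omit [IsDomain A] [IsNoetherianRing A] [IsIntegral X] in
theorem support_J : ((J f).support : Set X) = f ⁻¹' {IsLocalRing.closedPoint A} := by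
  rw [Scheme.IdealSheafData.support_comap]
  show f ⁻¹' ((Curv2.idealSheaf A 𝔪).support : Set _) = _
  congr 1
  ext p
  have h2 : p ∈ (Curv2.idealSheaf A 𝔪).support ↔ 𝔪 ≤ p.asIdeal := by
    rw [Scheme.IdealSheafData.mem_support_iff_of_mem (U := ⟨⊤, isAffineOpen_top _⟩) (Set.mem_univ _),
      show Curv2.idealSheaf A 𝔪 = idealOf 𝔪 from rfl, idealOf_top]
    rw [Scheme.mem_zeroLocus_iff]
    refine ⟨fun h a ha => ?_, fun h s hs => ?_⟩
    · have h1 := h _ (Ideal.mem_map_of_mem _ ha)
      rw [basicOpen_eq_of_affine] at h1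
      exact not_not.1 h1
    · obtain ⟨a, ha, rfl⟩ := (Ideal.mem_map_iff_of_surjective _
        (ConcreteCategory.bijective_of_isIso (C := CommRingCat) (Scheme.ΓSpecIso (CommRingCat.of A)).inv).2).1 hs
      rw [basicOpen_eq_of_affine]
      exact not_not.2 (h ha)
  rw [SetLike.mem_coe, h2, Set.mem_singleton_iff]
  refine ⟨fun h => PrimeSpectrum.ext (le_antisymm (IsLocalRing.le_maximalIdeal p.2.ne_top) h), fun h => ?_⟩
  rw [h]
  exact le_rfl

omit [IsDomain A] in
/-- The exceptional divisor has dimension at most one. -/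
theorem dim_exceptional_le (hdim : ringKrullDim A = 2) [LocallyOfFiniteType f]
    (hbir : ∃ U : (Spec (CommRingCat.of A)).Opens, (U : Set (Spec (CommRingCat.of A))).Nonempty ∧ IsIso (f ∣_ U)) :
    topologicalKrullDim ↥(J f).subscheme ≤ 1 := by
  let c := IsLocalRing.closedPoint A
  let e1 : ↥(J f).subscheme ≃ₜ ↥(f.fiber c) :=
    (((J f).subschemeι.isEmbedding.toHomeomorph.trans (Homeomorph.setCongr
      (((J f).range_subschemeι.trans (support_J f)).trans (f.range_fiberι c).symm))).trans
      (f.fiberι c).isEmbedding.toHomeomorph.symm)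
  rw [IsHomeomorph.topologicalKrullDim_eq _ e1.isHomeomorph]
  exact Groth.L13.ModFibre.topologicalKrullDim_fiber_le_one_spec (le_of_eq hdim) f hbir c

theorem finite_of_dim_le_zero {T : Scheme.{u}} [NoetherianSpace T] (h : topologicalKrullDim T ≤ 0) :
    Finite T := by
  haveI : Finite ↥(irreducibleComponents T) := (NoetherianSpace.finite_irreducibleComponents).to_subtype
  have hmax : ∀ p : T, closure ({p} : Set T) ∈ irreducibleComponents T := fun p => by
    refine ⟨isIrreducible_singleton.closure, fun s hs hle => ?_⟩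
    let a : IrreducibleCloseds T := ⟨closure {p}, isIrreducible_singleton.closure, isClosed_closure⟩
    let b : IrreducibleCloseds T := ⟨closure s, hs.closure, isClosed_closure⟩
    have hab : a ≤ b := fun z hz => subset_closure (hle hz)
    have h2 := (Order.krullDim_nonpos_iff_forall_isMax (α := IrreducibleCloseds T)).1 h a hab
    exact fun z hz => h2 (subset_closure hz)
  refine Finite.of_injective (fun p : T => (⟨closure {p}, hmax p⟩ : ↥(irreducibleComponents T))) fun p q hpq => ?_
  exact (inseparable_iff_closure_eq.2 (congrArg Subtype.val hpq)).eq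

/-- The exceptional divisor has dimension one. -/
theorem dim_exceptional [IsIntegrallyClosed A] (hdim : ringKrullDim A = 2) [IsProper f]
    (hbir : ∃ U : (Spec (CommRingCat.of A)).Opens, (U : Set (Spec (CommRingCat.of A))).Nonempty ∧ IsIso (f ∣_ U))
    (hiso : IsIso (f ∣_ (Curv2.idealSheaf A 𝔪).support.compl))
    (hE : BlowUp.IsEffCartierIdeal (J f)) :
    topologicalKrullDim ↥(J f).subscheme = 1 := by
  classical
  refine le_antisymm (dim_exceptional_le f hdim hbir) ?_
  by_contra hlt
  have h0 : topologicalKrullDim ↥(J f).subscheme ≤ 0 := by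
    have h := not_le.1 hlt
    rcases hd : topologicalKrullDim ↥(J f).subscheme with _ | n
    · exact bot_le
    · rw [hd] at h
      have h' : n < 1 := WithBot.coe_lt_coe.1 h
      exact WithBot.coe_le_coe.2 (le_of_eq (ENat.lt_one_iff_eq_zero.1 h'))
  haveI : IsLocallyNoetherian X := LocallyOfFiniteType.isLocallyNoetherian f
  haveI : CompactSpace X := QuasiCompact.compactSpace_of_compactSpace f
  haveI : AlgebraicGeometry.IsNoetherian X := {}
  haveI : NoetherianSpace ↥(J f).subscheme := (J f).subschemeι.isEmbedding.toIsInducing.noetherianSpace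
  haveI := finite_of_dim_le_zero h0
  haveI : LocallyQuasiFinite f := by
    refine LocallyQuasiFinite.of_finite_preimage_singleton f fun y => ?_
    by_cases hy : y = IsLocalRing.closedPoint A
    · subst hy
      rw [← support_J f, ← Scheme.IdealSheafData.range_subschemeι]
      exact Set.finite_range _
    · refine Set.Subsingleton.finite fun a ha b hb => ?_
      set U := (Curv2.idealSheaf A 𝔪).support.compl
      have hU : ∀ z : X, f z = y → z ∈ f ⁻¹ᵁ U := fun z hz hmem => hy (hz.symm.trans (by
        have h2 : z ∈ ((J f).support : Set X) := by rw [Scheme.IdealSheafData.support_comap]; exact hmem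
        rw [support_J f] at h2
        exact h2))
      exact congrArg Subtype.val ((f ∣_ U).homeomorph.injective (a₁ := ⟨a, hU a ha⟩) (a₂ := ⟨b, hU b hb⟩)
        (Subtype.ext ((morphismRestrict_base_coe f U ⟨a, hU a ha⟩).trans (ha.trans (hb.symm.trans
          (morphismRestrict_base_coe f U ⟨b, hU b hb⟩).symm)))))
  haveI : IsFinite f := .of_isProper_of_locallyQuasiFinite f
  haveI : IsAffine X := isAffine_of_isAffineHom f
  let eA : A ≃+* Γ(X, ⊤) := RingEquiv.ofBijective (Coh.toGlobal f) (bijective_toGlobal f hbir)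
  haveI : IsLocalRing Γ(X, ⊤) := eA.isLocalRing
  let q : PrimeSpectrum Γ(X, ⊤) := IsLocalRing.closedPoint _
  let x : X := (isAffineOpen_top X).fromSpec q
  letI := TopCat.Presheaf.algebra_section_stalk X.presheaf (U := (⊤ : X.Opens)) ⟨x, trivial⟩
  haveI : IsLocalization.AtPrime (X.presheaf.stalk x) q.asIdeal :=
    (isAffineOpen_top X).isLocalization_stalk' q trivial
  have hχ : Function.Bijective (χ f x) := by
    have h1 : Function.Bijective (algebraMap Γ(X, ⊤) (X.presheaf.stalk x)) :=
      (IsLocalization.atUnits Γ(X, ⊤) q.asIdeal.primeCompl (S := X.presheaf.stalk x) fun r hr => by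
        by_contra hu; exact hr ((IsLocalRing.mem_maximalIdeal r).2 hu)).bijective
    exact h1.comp eA.bijective
  obtain ⟨S₀, hS₀⟩ := (isNoetherianRing_iff_ideal_fg A).1 inferInstance 𝔪
  obtain ⟨i₀, -, hgen⟩ := exists_principal f hE (Subtype.val : ↥S₀ → A)
    (by rw [Subtype.range_coe]; exact hS₀) x
  have hm : 𝔪 = Ideal.span {(i₀ : A)} := by
    have h := congrArg (Ideal.comap (χ f x)) hgen
    rwa [Ideal.comap_map_of_bijective _ hχ, show ({χ f x (i₀ : A)} : Set _) = χ f x '' {(i₀ : A)} from
      (Set.image_singleton).symm, ← Ideal.map_span, Ideal.comap_map_of_bijective _ hχ] at h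
  haveI : (𝔪).IsPrincipal := ⟨⟨(i₀ : A), hm⟩⟩
  have h1 : (𝔪).height ≤ 1 := Ideal.height_le_one_of_isPrincipal_of_mem_minimalPrimes 𝔪 𝔪 (by
    rw [Ideal.minimalPrimes_eq_subsingleton_self]; rfl)
  have h2 := IsLocalRing.maximalIdeal_height_eq_ringKrullDim (R := A)
  rw [hdim] at h2
  have h3 : ((𝔪).height : WithBot ℕ∞) ≤ 1 := WithBot.coe_le_coe.2 h1
  rw [h2] at h3
  exact absurd h3 (by decide)

omit [IsIntegral X] in
/-- The blow-up of the closed point is an integral modification. -/
theorem blowUp_props [IsIntegrallyClosed A] (hdim : ringKrullDim A = 2)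
    (hb : BlowUp.IsBlowUp f (idealOf 𝔪)) :
    IsIntegral X ∧ IsProper f ∧
      (∃ U : (Spec (CommRingCat.of A)).Opens, (U : Set (Spec (CommRingCat.of A))).Nonempty ∧ IsIso (f ∣_ U)) ∧
      IsIso (f ∣_ (Curv2.idealSheaf A 𝔪).support.compl) := by
  have hm : 𝔪 ≠ ⊥ := fun h => by
    have := (IsLocalRing.isField_iff_maximalIdeal_eq.2 h)
    rw [ringKrullDim_eq_zero_of_isField this] at hdim
    exact absurd hdim (by decide)
  have hne : ((idealOf 𝔪).support.compl : Set (Spec (CommRingCat.of A))).Nonempty := by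
    refine ⟨⟨⊥, Ideal.isPrime_bot⟩, fun hmem => hm (eq_bot_iff.2 fun r hr => ?_)⟩
    rw [SetLike.mem_coe, Scheme.IdealSheafData.mem_support_iff_of_mem (U := ⟨⊤, isAffineOpen_top _⟩) (Set.mem_univ _),
      idealOf_top] at hmem
    have h1 := (Scheme.mem_zeroLocus_iff _ _ _).1 hmem _ (Ideal.mem_map_of_mem _ hr)
    rw [basicOpen_eq_of_affine] at h1
    exact not_not.1 h1
  haveI := Groth.Agent.L13.BlowTwo.irreducible_blowUp f hb hne
  haveI := isReduced_blowUp f hb
  refine ⟨isIntegral_of_irreducibleSpace_of_isReduced X, isProper_blowUp hb fun U => ?_,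
    ⟨_, hne, Groth.L22.Ideals.isIso_restrict_compl hb⟩, Groth.L22.Ideals.isIso_restrict_compl hb⟩
  haveI : IsNoetherianRing Γ(Spec (CommRingCat.of A), U.1) := IsLocallyNoetherian.component_noetherian U
  exact IsNoetherian.noetherian _

end Groth.L05.RatPow
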