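import Groth.Agent.L05.RatPow.Basic
import Groth.Agent.L05.RatPow.Birat
import Groth.Agent.L13.ModFibre
import Groth.Prelude.Def_BlowUp2
import Mathlib.RingTheory.Ideal.Operations

/-! Powers of the maximal ideal of a rational singularity on a modification. -/

set_option autoImplicit false
set_option linter.style.haveILetI false
set_option maxHeartbeats 1000000
set_option backward.isDefEq.respectTransparency false
set_option backward.isDefEq.respectTransparency.types false

universe u

open CategoryTheory CategoryTheory.Limits AlgebraicGeometry TopologicalSpace Opposite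

noncomputable section

namespace Groth.L05.RatPow

open Groth.L21.RR (st one oneSec st_comp st_sum st_germ bijective_smul_one e0)
open Groth.L16.CohLinear (hmap exact_hmap_delta)

variable {A : Type u} [CommRing A] [IsDomain A] [IsLocalRing A] [IsNoetherianRing A] {X : Scheme.{u}}
  (f : X ⟶ Spec (CommRingCat.of A))

local notation "𝔪" => IsLocalRing.maximalIdeal A

/-- The pulled back ideal. -/
abbrev J : X.IdealSheafData := (Curv2.idealSheaf A (IsLocalRing.maximalIdeal A)).comap f

/-- The functions of the base in a stalk. -/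
def χ (x : X) : A →+* X.presheaf.stalk x := (X.presheaf.germ ⊤ x trivial).hom.comp (Coh.toGlobal f)

omit [IsDomain A] [IsNoetherianRing A] in
theorem map_germ (n : ℕ) (V : X.affineOpens) (x : X) (hx : x ∈ V.1) :
    ((J f ^ n).ideal V).map (X.presheaf.germ V.1 x hx).hom = (𝔪 ^ n).map (χ f x) := by
  rw [Scheme.IdealSheafData.ideal_pow, Pi.pow_apply, Groth.L20.AffBlow.ideal_comap_idealSheaf, ← Ideal.map_pow,
    Ideal.map_map]
  refine congrArg (fun φ => Ideal.map φ (𝔪 ^ n)) ?_
  ext a
  exact congr($(X.presheaf.germ_res (homOfLE (le_top : V.1 ≤ ⊤)) x hx) (Coh.toGlobal f a))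

omit [IsDomain A] [IsNoetherianRing A] in
theorem range_ι_iff (n : ℕ) (x : X) (c : X.presheaf.stalk x) :
    (∃ u, st (ClSub.idealModι (J f ^ n)) x u = c • one X x) ↔ c ∈ (𝔪 ^ n).map (χ f x) := by
  obtain ⟨_, ⟨V, hV, rfl⟩, hxV, -⟩ := X.isBasis_affineOpens.exists_subset_of_mem_open (Set.mem_univ x) isOpen_univ
  rw [Groth.L21.RR.range_st_idealModι _ hV hxV, map_germ f n ⟨V, hV⟩ x hxV]
  exact ⟨fun ⟨r, hr, h⟩ => smul_one_inj h ▸ hr, fun h => ⟨c, h, rfl⟩⟩

omit [IsDomain A] [IsNoetherianRing A] in
theorem st_ι_injective (n : ℕ) (x : X) : Function.Injective (st (ClSub.idealModι (J f ^ n)) x) :=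
  haveI : Mono (ClSub.idealModι (J f ^ n)) := inferInstanceAs (Mono (kernel.ι _))
  Groth.L15.TFCurve.st_injective (ClSub.idealModι (J f ^ n)) x

omit [IsDomain A] [IsNoetherianRing A] in
/-- The section of a power of the ideal given by an element of the base. -/
theorem exists_τ (n : ℕ) {a : A} (ha : ∀ x, χ f x a ∈ (𝔪 ^ n).map (χ f x)) :
    ∃ τ : Coh.structureModule X ⟶ ClSub.idealMod (J f ^ n),
      τ ≫ ClSub.idealModι (J f ^ n) = mulBy (Coh.toGlobal f a) := by
  haveI : Mono (ClSub.idealModι (J f ^ n)) := inferInstanceAs (Mono (kernel.ι _))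
  refine Groth.L21.RR.exists_lift _ _ fun y v => ?_
  obtain ⟨c, rfl⟩ := exists_coeff y v
  rw [st_mulBy_smul]
  exact (range_ι_iff f n y _).2 (Ideal.mul_mem_left _ c (ha y))

omit [IsDomain A] [IsNoetherianRing A] in
theorem isGloballyGenerated_idealMod (n : ℕ) : Curv2.IsGloballyGenerated (ClSub.idealMod (J f ^ n)) := by
  choose τ hτ using fun a : ↥(𝔪 ^ n) => exists_τ f n (a := a.1) fun x => Ideal.mem_map_of_mem _ a.2
  refine isGloballyGenerated_of_span (fun a => (τ a).app ⊤ (oneSec X)) fun x => eq_top_iff.2 fun u _ => ?_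
  obtain ⟨c, hc⟩ := exists_coeff x (st (ClSub.idealModι (J f ^ n)) x u)
  have hmem := (range_ι_iff f n x c).1 ⟨u, hc.symm⟩
  suffices key : ∀ c ∈ (𝔪 ^ n).map (χ f x), ∃ w ∈ Submodule.span (X.presheaf.stalk x)
      (Set.range fun a => (ClSub.idealMod (J f ^ n)).presheaf.germ ⊤ x trivial ((τ a).app ⊤ (oneSec X))),
      st (ClSub.idealModι (J f ^ n)) x w = c • one X x by
    obtain ⟨w, hw, hw'⟩ := key c hmem
    rwa [← st_ι_injective f n x (hw'.trans hc)]
  intro c hc
  induction hc using Submodule.span_induction with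
  | mem r hr =>
    obtain ⟨a, ha, rfl⟩ := hr
    refine ⟨_, Submodule.subset_span ⟨⟨a, ha⟩, rfl⟩, ?_⟩
    show st (ClSub.idealModι (J f ^ n)) x ((ClSub.idealMod (J f ^ n)).presheaf.germ ⊤ x _ _) = _
    rw [← Groth.L21.RR.st_one_top (τ ⟨a, ha⟩) x, ← st_comp, hτ]
    exact st_mulBy_one _ x
  | zero => exact ⟨0, zero_mem _, by rw [map_zero, zero_smul]⟩
  | add a b _ _ ha hb =>
    obtain ⟨w, hw, hw'⟩ := ha
    obtain ⟨w', hw₂, hw₂'⟩ := hb
    exact ⟨w + w', add_mem hw hw₂, by rw [map_add, hw', hw₂', add_smul]⟩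
  | smul r a _ ha =>
    obtain ⟨w, hw, hw'⟩ := ha
    exact ⟨r • w, Submodule.smul_mem _ _ hw, by rw [map_smul, hw', smul_eq_mul, mul_smul]⟩

variable [IsIntegral X]

omit [IsDomain A] [IsNoetherianRing A] in
/-- The pulled back ideal is generated in each stalk by one of the generators. -/
theorem exists_principal (hE : BlowUp.IsEffCartierIdeal (J f)) {S : Type u} [Fintype S] (t : S → A)
    (ht : Ideal.span (Set.range t) = 𝔪) (x : X) :
    ∃ i, χ f x (t i) ≠ 0 ∧ (𝔪).map (χ f x) = Ideal.span {χ f x (t i)} := by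
  obtain ⟨U, hxU, g, hg, hgI⟩ := hE x
  have hm := map_germ f 1 U x hxU
  rw [pow_one, pow_one, hgI, Ideal.map_span, Set.image_singleton] at hm
  set γ := (X.presheaf.germ U.1 x hxU).hom g
  haveI : Nonempty U.1 := ⟨⟨x, hxU⟩⟩
  have hγ : γ ≠ 0 := fun h0 => nonZeroDivisors.ne_zero hg
    (germ_injective_of_isIntegral X x hxU (h0.trans (map_zero _).symm))
  have hsp : (𝔪).map (χ f x) = Ideal.span (Set.range fun i => χ f x (t i)) := by
    rw [← ht, Ideal.map_span, ← Set.range_comp]
    rfl
  have hq : ∀ i, ∃ q, χ f x (t i) = q * γ := fun i => by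
    have h : χ f x (t i) ∈ Ideal.span {γ} := by rw [hm, hsp]; exact Ideal.subset_span ⟨i, rfl⟩
    obtain ⟨q, hq⟩ := Ideal.mem_span_singleton'.1 h
    exact ⟨q, hq.symm⟩
  choose q hq using hq
  have hmem : γ ∈ Ideal.span (Set.range fun i => χ f x (t i)) := by
    rw [← hsp, ← hm]; exact Ideal.mem_span_singleton_self γ
  obtain ⟨r, hr⟩ := Ideal.mem_span_range_iff_exists_fun.1 hmem
  have h1 : (∑ i, r i * q i - 1) * γ = 0 := by
    rw [sub_mul, one_mul, Finset.sum_mul, sub_eq_zero]
    conv_rhs => rw [← hr]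
    exact Finset.sum_congr rfl fun i _ => by rw [hq]; ring
  have h2 := sub_eq_zero.1 ((mul_eq_zero.1 h1).resolve_right hγ)
  obtain ⟨i, hi⟩ : ∃ i, IsUnit (q i) := by
    by_contra hall
    push Not at hall
    have : (1 : X.presheaf.stalk x) ∈ IsLocalRing.maximalIdeal (X.presheaf.stalk x) :=
      h2 ▸ Ideal.sum_mem _ fun i _ => Ideal.mul_mem_left _ _ (hall i)
    exact (IsLocalRing.maximalIdeal.isMaximal _).ne_top ((Ideal.eq_top_iff_one _).2 this)
  refine ⟨i, ?_, ?_⟩
  · rw [hq]; exact mul_ne_zero hi.ne_zero hγ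
  · rw [← hm, hq, Ideal.span_singleton_mul_left_unit hi]

omit [IsDomain A] in
theorem exists_closedPoint_preimage [IsProper f] [IsDominant f] : ∃ x : X, f x = IsLocalRing.closedPoint A := by
  have hr : DenseRange f := f.denseRange
  exact f.isClosedMap.isClosed_range.closure_subset (hr _)

variable [IsIntegrallyClosed A] [IsProper f]

/-- Powers of the maximal ideal are contracted. -/
theorem mem_pow_of_forall (hN1 : ∀ G : X.Modules, Coh.IsQCoh G → Curv2.IsGloballyGenerated G →
      Subsingleton (Coh.HH X G 1))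
    (hbir : ∃ U : (Spec (CommRingCat.of A)).Opens, (U : Set (Spec (CommRingCat.of A))).Nonempty ∧ IsIso (f ∣_ U))
    (hE : BlowUp.IsEffCartierIdeal (J f)) :
    ∀ (n : ℕ) (a : A), (∀ x, χ f x a ∈ (𝔪 ^ n).map (χ f x)) → a ∈ 𝔪 ^ n := by
  classical
  have hbij := bijective_toGlobal f hbir
  have hinjχ : ∀ x, Function.Injective (χ f x) := fun x =>
    (germ_injective_of_isIntegral X (U := ⊤) x trivial).comp hbij.1
  obtain ⟨S₀, hS₀⟩ := (isNoetherianRing_iff_ideal_fg A).1 inferInstance 𝔪
  let t : ↥S₀ → A := Subtype.val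
  have ht : Ideal.span (Set.range t) = 𝔪 := by
    rw [show Set.range t = (S₀ : Set A) from Subtype.range_coe]
    exact hS₀
  intro n
  induction n with
  | zero => intro a _; simp
  | succ n ih =>
    intro a ha
    rcases Nat.eq_zero_or_pos n with rfl | hn
    · rw [pow_one] at ha ⊢
      by_contra hna
      obtain ⟨U, hU, hiso⟩ := hbir
      haveI : IsDominant f := by
        refine ⟨?_⟩
        rw [DenseRange]
        refine Dense.mono ?_ (U.2.dense hU)
        intro y hy
        obtain ⟨z, hz⟩ := (asIso (f ∣_ U)).hom.homeomorph.surjective ⟨y, hy⟩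
        exact ⟨z.1, (morphismRestrict_base_coe f U z).symm.trans (congrArg Subtype.val hz)⟩
      obtain ⟨x, hx⟩ := exists_closedPoint_preimage f
      have hle : (𝔪).map (χ f x) ≤ IsLocalRing.maximalIdeal _ := Ideal.map_le_iff_le_comap.2 fun b hb => by
        rw [Ideal.mem_comap, IsLocalRing.mem_maximalIdeal, mem_nonunits_iff]
        intro hu
        have h1 : x ∈ X.basicOpen (f.appTop ((Scheme.ΓSpecIso (CommRingCat.of A)).inv b)) := (Scheme.mem_basicOpen_top X _ x).2 hu
        have h2 : f x ∈ (Spec (CommRingCat.of A)).basicOpen ((Scheme.ΓSpecIso (CommRingCat.of A)).inv b) := by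
          rw [← Scheme.preimage_basicOpen_top] at h1
          exact h1
        rw [hx, basicOpen_eq_of_affine] at h2
        exact h2 hb
      exact hle (ha x) (((not_not.1 fun h => hna ((IsLocalRing.mem_maximalIdeal a).2 h))).map _)
    -- the syzygies of the generators
    let G := ClSub.idealMod (J f ^ n)
    let ιn : G ⟶ Coh.structureModule X := ClSub.idealModι (J f ^ n)
    let P : ↥S₀ → X.Modules := fun _ => G
    let Φ : ⨁ P ⟶ Coh.structureModule X := biproduct.desc fun i => ιn ≫ mulBy (Coh.toGlobal f (t i))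
    haveI hGq : Coh.IsQCoh G := Groth.L18.IdealModule.isQCoh_idealMod _
    haveI : Coh.IsQCoh (⨁ P) := Groth.L29.QCohInj.isQCoh_of_finite_biproduct _ fun _ => hGq
    haveI : Coh.IsQCoh (Coh.structureModule X) := Groth.L19.Conormal.isQCoh_structureModule X
    have hΦι : ∀ i, biproduct.ι P i ≫ Φ = ιn ≫ mulBy (Coh.toGlobal f (t i)) := fun i => biproduct.ι_desc _ i
    have hst : ∀ (x : X) (v : (⨁ P).presheaf.stalk x) (c : ↥S₀ → X.presheaf.stalk x),
        (∀ i, st ιn x (st (biproduct.π P i) x v) = c i • one X x) →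
          st Φ x v = (∑ i, c i * χ f x (t i)) • one X x := by
      intro x v c hc
      conv_lhs => rw [← sum_components x v, map_sum]
      rw [Finset.sum_smul]
      refine Finset.sum_congr rfl fun i _ => ?_
      rw [← st_comp, hΦι, st_comp, hc, st_mulBy_smul]
      rfl
    choose τ hτ using fun b : ↥(𝔪 ^ n) => exists_τ f n (a := b.1) fun x => Ideal.mem_map_of_mem _ b.2
    have htn : ∀ i j : ↥S₀, t j * t i ^ (n - 1) ∈ 𝔪 ^ n := fun i j => by
      rw [show n = n - 1 + 1 by omega, pow_succ', Nat.add_sub_cancel]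
      exact Ideal.mul_mem_mul (ht ▸ Ideal.subset_span ⟨j, rfl⟩)
        (Ideal.pow_mem_pow (ht ▸ Ideal.subset_span ⟨i, rfl⟩) _)
    let ψ : ↥S₀ × ↥S₀ → (Coh.structureModule X ⟶ ⨁ P) := fun p =>
      τ ⟨t p.1 * t p.1 ^ (n - 1), htn p.1 p.1⟩ ≫ biproduct.ι P p.2 -
        τ ⟨t p.2 * t p.1 ^ (n - 1), htn p.1 p.2⟩ ≫ biproduct.ι P p.1
    have hτst : ∀ (b : ↥(𝔪 ^ n)) (x : X), st ιn x (st (τ b) x (one X x)) = χ f x b.1 • one X x := fun b x => by
      rw [← st_comp, hτ]
      exact st_mulBy_one _ x
    have hψΦ : ∀ p, ψ p ≫ Φ = 0 := fun p => by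
      refine Groth.L15.TFCurve.hom_zero_of_st _ fun x v => ?_
      show st (ψ p ≫ Φ) x v = 0
      obtain ⟨c, rfl⟩ := exists_coeff x v
      rw [map_smul]
      have h1 : ∀ (b : ↥(𝔪 ^ n)) i, st (τ b ≫ biproduct.ι P i ≫ Φ) x (one X x) =
          (χ f x b.1 * χ f x (t i)) • one X x := fun b i => by
        rw [hΦι, st_comp, st_comp, hτst, st_mulBy_smul]
        rfl
      have h2 : st (ψ p ≫ Φ) x (one X x) = 0 := by
        simp only [ψ, Preadditive.sub_comp, Category.assoc]
        rw [show ∀ (g g' : Coh.structureModule X ⟶ Coh.structureModule X),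
          st (g - g') x (one X x) = st g x (one X x) - st g' x (one X x) from fun g g' => by
            simp only [st, Functor.map_sub]; rfl, h1, h1, ← sub_smul]
        simp only [map_mul]
        ring_nf
        rw [zero_smul]
      rw [h2, smul_zero]
    let κ : ↥S₀ × ↥S₀ → Γ(kernel Φ, ⊤) := fun p => (kernel.lift Φ (ψ p) (hψΦ p)).app ⊤ (oneSec X)
    have hgg : Curv2.IsGloballyGenerated (kernel Φ) := by
      refine isGloballyGenerated_of_span κ fun x => eq_top_iff.2 fun w _ => ?_
      set v := st (kernel.ι Φ) x w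
      choose c hc using fun i => exists_coeff x (st ιn x (st (biproduct.π P i) x v))
      obtain ⟨i₀, hi₀, hgen⟩ := exists_principal f hE t ht x
      have hce : ∀ i, ∃ e, c i = e * χ f x (t i₀) ^ n := fun i => by
        have h := (range_ι_iff f n x (c i)).1 ⟨_, (hc i).symm⟩
        rw [Ideal.map_pow, hgen, Ideal.span_singleton_pow] at h
        obtain ⟨e, he⟩ := Ideal.mem_span_singleton'.1 h
        exact ⟨e, he.symm⟩
      choose e he using hce
      have hz : ∑ i, e i * χ f x (t i) = 0 := by
        have h := hst x v c fun i => (hc i).symm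
        rw [show st Φ x v = 0 from (Groth.L15.TFCurve.st_kernel Φ x).2 ⟨w, rfl⟩] at h
        have h' : ∑ i, c i * χ f x (t i) = 0 := smul_one_inj (h.symm.trans (zero_smul _ _).symm)
        refine (mul_eq_zero.1 ?_).resolve_right (pow_ne_zero n hi₀)
        rw [← h', Finset.sum_mul]
        exact Finset.sum_congr rfl fun i _ => by rw [he]; ring
      have hw : w = ∑ j, e j • (kernel Φ).presheaf.germ ⊤ x trivial (κ (i₀, j)) := by
        refine Groth.L15.TFCurve.st_injective (kernel.ι Φ) x ?_
        change v = st (kernel.ι Φ) x _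
        rw [map_sum]
        have hκ : ∀ j, st (kernel.ι Φ) x (e j • (kernel Φ).presheaf.germ ⊤ x trivial (κ (i₀, j))) =
            e j • st (ψ (i₀, j)) x (one X x) := fun j => by
          rw [map_smul, ← st_germ, ← st_comp, kernel.lift_ι]
          rfl
        rw [Finset.sum_congr rfl fun j _ => hκ j]
        conv_lhs => rw [← sum_components x v]
        have hexp : ∀ l, st (biproduct.π P l) x v = st (biproduct.π P l) x (∑ j, e j • st (ψ (i₀, j)) x (one X x)) := by
          intro l
          refine st_ι_injective f n x ?_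
          change st ιn x _ = st ιn x _
          rw [← hc l, map_sum, map_sum]
          have hterm : ∀ j, st ιn x (st (biproduct.π P l) x (e j • st (ψ (i₀, j)) x (one X x))) =
              (e j * ((if j = l then χ f x (t i₀) ^ n else 0) -
                if i₀ = l then χ f x (t j) * χ f x (t i₀) ^ (n - 1) else 0)) • one X x := fun j => by
            rw [map_smul, map_smul, mul_smul]
            congr 1
            rw [← st_comp, ← st_comp]
            simp only [ψ, Preadditive.sub_comp, Category.assoc]
            rw [show ∀ (g g' : Coh.structureModule X ⟶ Coh.structureModule X),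
              st (g - g') x (one X x) = st g x (one X x) - st g' x (one X x) from fun g g' => by
                simp only [st, Functor.map_sub]; rfl, sub_smul]
            congr 1
            · split_ifs with h
              · subst h
                rw [biproduct.ι_π_self_assoc, st_comp, hτst, map_mul, map_pow, ← pow_succ', show n - 1 + 1 = n by omega]
              · rw [biproduct.ι_π_ne_assoc _ h, zero_comp, comp_zero, zero_smul]
                exact Groth.L15.TFCurve.st_zero x _
            · split_ifs with h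
              · subst h
                rw [biproduct.ι_π_self_assoc, st_comp, hτst, map_mul, map_pow]
              · rw [biproduct.ι_π_ne_assoc _ h, zero_comp, comp_zero, zero_smul]
                exact Groth.L15.TFCurve.st_zero x _
          rw [Finset.sum_congr rfl fun j _ => hterm j, ← Finset.sum_smul]
          congr 1
          simp only [mul_sub, mul_ite, mul_zero, Finset.sum_sub_distrib, Finset.sum_ite_eq', Finset.mem_univ, if_true]
          split_ifs with h
          · subst h
            rw [show (∑ j, e j * (χ f x (t j) * χ f x (t i₀) ^ (n - 1))) = 0 by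
              rw [show (∑ j, e j * (χ f x (t j) * χ f x (t i₀) ^ (n - 1))) =
                (∑ j, e j * χ f x (t j)) * χ f x (t i₀) ^ (n - 1) by
                  rw [Finset.sum_mul]; exact Finset.sum_congr rfl fun j _ => by ring, hz, zero_mul],
              sub_zero, he]
          · rw [Finset.sum_const_zero, sub_zero, he]
        rw [Finset.sum_congr rfl fun l _ => congrArg _ (hexp l), sum_components]
      rw [hw]
      exact Submodule.sum_mem _ fun j _ => Submodule.smul_mem _ _ (Submodule.subset_span ⟨_, rfl⟩)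
    have hH1 := hN1 (kernel Φ) (Groth.L18.IdealModule.isQCoh_kernel Φ) hgg
    -- lift the element
    obtain ⟨g, hg⟩ := Groth.L21.RR.exists_lift (Abelian.image.ι Φ) (mulBy (Coh.toGlobal f a)) fun y v => by
      obtain ⟨c, rfl⟩ := exists_coeff y v
      rw [st_mulBy_smul]
      suffices h : ∃ w, st Φ y w = (c * χ f y a) • one X y by
        obtain ⟨w, hw⟩ := h
        refine ⟨st (Abelian.factorThruImage Φ) y w, ?_⟩
        rw [← st_comp, Abelian.image.fac]
        exact hw
      have hmem : c * χ f y a ∈ Ideal.span (Set.range fun i => χ f y (t i)) * (𝔪 ^ n).map (χ f y) := by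
        have h := Ideal.mul_mem_left _ c (ha y)
        rw [pow_succ', Ideal.map_mul] at h
        have hs : (𝔪).map (χ f y) = Ideal.span (Set.range fun i => χ f y (t i)) := by
          rw [← ht, Ideal.map_span, ← Set.range_comp]
          rfl
        rwa [← hs]
      generalize c * χ f y a = r at hmem ⊢
      induction hmem using Submodule.mul_induction_on' with
      | mem_mul_mem r hr w hw =>
        obtain ⟨co, hco⟩ := Ideal.mem_span_range_iff_exists_fun.1 hr
        choose u hu using fun i => (range_ι_iff f n y (co i * w)).2 (Ideal.mul_mem_left _ _ hw)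
        refine ⟨∑ i, st (biproduct.ι P i) y (u i), ?_⟩
        rw [map_sum, ← hco, Finset.sum_mul, Finset.sum_smul]
        refine Finset.sum_congr rfl fun i _ => ?_
        rw [← st_comp, hΦι, st_comp, show st ιn y (u i) = (co i * w) • one X y from hu i, st_mulBy_smul]
        congr 1
        show co i * w * χ f y (t i) = _
        ring
      | add r _ w _ hr hw =>
        obtain ⟨u, hu⟩ := hr
        obtain ⟨u', hu'⟩ := hw
        exact ⟨u + u', by rw [map_add, hu, hu', add_smul]⟩
    let s : Coh.HH X (Abelian.image Φ) 0 := (e0 (Abelian.image Φ)).symm (g.app ⊤ (oneSec X))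
    obtain ⟨w, hw⟩ := (exact_hmap_delta (Groth.L16.Devissage.shortExact_kernel_image Φ) 0 s).1 (hH1.elim _ _)
    set σ := e0 (⨁ P) w
    have hσ : (Abelian.factorThruImage Φ).app ⊤ σ = g.app ⊤ (oneSec X) := by
      rw [← Groth.L21.RR.e0_hmap]
      exact (congrArg (e0 _) hw).trans (AddEquiv.apply_symm_apply _ _)
    choose b hb using fun i => hbij.2 (show Γ(X, ⊤) from ιn.app ⊤ ((biproduct.π P i).app ⊤ σ))
    have hbst : ∀ (x : X) i,
        st ιn x (st (biproduct.π P i) x ((⨁ P).presheaf.germ ⊤ x trivial σ)) = χ f x (b i) • one X x := by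
      intro x i
      rw [st_germ, st_germ]
      exact (congrArg _ (hb i).symm).trans (Groth.L21.RR.germ_eq_smul_one (V := ⊤) (z := x) trivial _)
    have hbn : ∀ i, b i ∈ 𝔪 ^ n := fun i => ih (b i) fun x => (range_ι_iff f n x _).1 ⟨_, hbst x i⟩
    have hab : a = ∑ i, b i * t i := by
      refine hinjχ (genericPoint X) (smul_one_inj ?_)
      rw [map_sum, ← show st Φ (genericPoint X) ((⨁ P).presheaf.germ ⊤ _ trivial σ) =
        (∑ i, χ f (genericPoint X) (b i * t i)) • one X (genericPoint X) by
          simp only [map_mul]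
          exact hst _ _ _ (hbst _)]
      conv_rhs => rw [← Abelian.image.fac Φ, st_comp, st_germ, hσ, ← st_germ, ← st_comp, hg]
      exact (st_mulBy_one _ _).symm
    rw [hab, pow_succ']
    refine Ideal.sum_mem _ fun i _ => ?_
    rw [mul_comm (b i)]
    exact Ideal.mul_mem_mul (ht.le (Ideal.subset_span ⟨i, rfl⟩)) (hbn i)

end Groth.L05.RatPow
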